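import Cfsg.Agent.Lib.SLD.Dblf
import Cfsg.Agent.Lib.SL8.Dbl1

/-! The field case -/

set_option autoImplicit false
set_option linter.unusedSectionVars false

namespace CfsgLib.SL8

open CfsgLib.SLD Subgroup QuadraticMap CfsgLib.OrthE Module
open scoped commutatorElement Pointwise

universe u

variable {F V : Type} [Field F] [Finite F] [AddCommGroup V] [Module F V] [Finite V] {Q : QuadraticForm F V}
  {k : ℕ} {G : Type u} [Group G] [Finite G] {φ : Om Q →* G} {t : G} {y : V → V → G} {c : F}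

section

variable [Fact (∀ r : F, r ^ 2 ≠ c + 1 * r)]

theorem df_os [Finite (HX.QA F c)] (h : OS Q k) {τ : SI (dfQ Q c)}
    (ds : Ds Q (algebraMap F (HX.QA F c)) (dι c) τ) : SLD.OS (dfQ Q c) k := by
  have q2 : 2 ≤ Nat.card F := Finite.one_lt_card
  refine ⟨⟨by rw [← map_ofNat (algebraMap F _), h.two, map_zero], fun x hx => ?_, ?_, h.four⟩, fun e => ?_⟩
  · have := fun p => df_ι.1 ((polar_comm _ _ _).trans (hx (dι c p)))
    exact Prod.ext (h.nd _ fun p => (polar_comm _ _ _).trans (this p).1)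
      (h.nd _ fun p => (polar_comm _ _ _).trans (this p).2)
  · have := ds.cardV
    rw [natCard_eq_pow_finrank (K := HX.QA F c), natCard_eq_pow_finrank (K := F) (V := V), ds.card, h.dim,
      ← pow_mul, ← pow_mul] at this
    have := Nat.pow_right_injective q2 this
    omega
  · rw [ds.card] at e
    nlinarith

end

theorem HV.field (h : HV Q k φ t y c) (hc : ∀ r : F, r * r + r ≠ c) :
    ∃ (K V' : Type) (_ : Field K) (_ : Finite K) (_ : AddCommGroup V') (_ : Module K V') (_ : Finite V')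
      (Q' : QuadraticForm K V') (ψ : Om Q' →* G) (j : F →+* K) (ι : V →+ V') (τ : SI Q'),
      DblF φ k t y c ψ j ι τ := by
  have hF : Fact (∀ r : F, r ^ 2 ≠ c + 1 * r) :=
    ⟨fun r e => hc r (by linear_combination e + h.addF r)⟩
  have fF : Finite (HX.QA F c) := Finite.of_equiv _ (QuadraticAlgebra.equivProd c 1).symm
  obtain ⟨τ, ds, hτ⟩ := df_ds h.toOS0 c
  have h' := df_os h.toOS ds
  obtain ⟨e, f, fr⟩ := h.exists_fr
  obtain ⟨x, hx, x0, qx⟩ := df_sing h.toOS0 hc fr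
  obtain ⟨x', hx', hh⟩ := h'.partner_Wn (ds.fr fr) hx x0 qx
  have fr' := (ds.fr fr).snoc hh hx hx'
  have k0 : 0 < k - 1 := by have := h.four; omega
  rw [Nat.sub_add_cancel (by omega)] at fr'
  obtain ⟨ψ, p1, p2⟩ := h'.pres fr' {u | ∃ v, Q v = 0 ∧ u = dι c v}
    (fun i hi => ⟨⟨_, fr.qe i hi, if_pos hi⟩, _, fr.qf i hi, if_pos hi⟩) (fun u => dX φ y c u.1)
    (by
      rintro _ ⟨u, hu, rfl⟩ v w h1 h2
      exact h.dadd hu (df_ι.1 h1).1 (df_ι.1 h1).2 (df_ι.1 h2).1 (df_ι.1 h2).2)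
    (by rintro _ ⟨u, hu, rfl⟩; exact h.dself hu)
    (by rintro _ ⟨u, hu, rfl⟩ _ ⟨v, hv, rfl⟩ h1; exact h.dswap hu hv (df_ι.1 h1).1)
    (by
      rintro _ ⟨u, hu, rfl⟩ _ ⟨u', hu', rfl⟩ h0 v w h1 h2 h3
      rw [h'.ρ_smul (ds.map0.2 hu) h1, df_pol, df_pol]
      exact h.dconj hu hu' (df_ι.1 h0).1 (df_ι.1 h1).1 (df_ι.1 h1).2 (df_ι.1 h2).1 (df_ι.1 h2).2
        (df_ι.1 h3).1 (df_ι.1 h3).2)
  simp only [if_pos k0] at p1 p2
  obtain ⟨d, -, -, hd, -⟩ := ds.exists_hom h'.toOS0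
  have xd : ∀ u v, xx (ψ.comp d) u v = xx ψ (dι c u) (dι c v) := fun u v => by
    rw [xx, xx, ← hd, ph_coe, ph_eq (ρ_mem Q u v)]
    rfl
  have e1 : ψ.comp d = φ := df_ext h.toOS0 (fr.hyp k0)
    (fun w hw => (xd _ _).trans ((p1 _ (ds.pol0.2 hw)).trans (h.dre (fr.qe 0 k0) w)))
    fun w hw => (xd _ _).trans ((p2 _ (ds.pol0.2 hw)).trans (h.dre (fr.qf 0 k0) w))
  have L1 : φ.range ≤ ψ.range := by
    rintro _ ⟨a, rfl⟩
    exact ⟨d a, DFunLike.congr_fun e1 a⟩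
  have hh' := (ds.fr fr).hyp k0
  refine ⟨HX.QA F c, Dv c V, inferInstance, fF, inferInstance, inferInstance, inferInstance, dfQ Q c, ψ,
    algebraMap _ _, dι c, τ, h, ⟨h', ?_⟩, ds, fun a ha => ?_, fun u v => by rw [← xd, e1],
    le_antisymm ?_ (G0_le_iff.2 ⟨L1, fun u v hu hv => ?_⟩), _, _, fr'⟩
  · have := h'.simple
    have := h.simple
    refine ψ.ker_eq_bot_iff.1 ((ψ.normal_ker.eq_bot_or_eq_top).resolve_right fun k => ?_)
    obtain ⟨a, ha⟩ := exists_ne (1 : Om Q)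
    exact ha (h.inj (by rw [map_one, ← e1]; exact k.ge (mem_top (d a))))
  · have xt : ∀ u, Q u = 0 → (∀ v, polar (dfQ Q c) (dι c u) v = 0 → xx ψ (dι c u) v = dX φ y c u v) →
        ∀ v, polar (dfQ Q c) (dι c u) v = 0 → xx (cj ψ t) (dι c u) v =
          xx (ψ.comp (MulAut.conjNormal τ).toMonoidHom) (dι c u) v := fun u hu p v hv => by
      rw [xx_cj, p v hv, h.dt hu (df_ι.1 hv).1 (df_ι.1 hv).2, show ((v.1 + v.2, v.2) : V × V) = τ • v from
        (hτ v).symm, ← p _ (by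
        rw [← ds.fix' u, τ.pol_eq_zero]; exact hv), ← ds.fix' u, xx, ← conj_ρ, ds.fix', xx,
        ph_eq (ρ_mem _ _ _), ph_eq (Om_normal.conj_mem _ (ρ_mem _ _ _) _)]
      rfl
    rw [← ph_cj, df_ext h'.toOS0 hh' (xt _ (fr.qe 0 k0) p1) (xt _ (fr.qf 0 k0) p2), ph_eq ha,
      ph_eq (Om_normal.conj_mem a ha τ)]
    rfl
  · rw [← im_Om]
    refine im_le_of_le_pre ((h'.gen_A hh').trans (sup_le (A_le fun v _ hv => ?_) (A_le fun v _ hv => ?_))) <;>
      refine mem_pre.2 ⟨ρ_mem _ _ _, ?_⟩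
    · exact (congrArg (· ∈ G0 φ y) (p1 v hv)).mpr (h.dmem (fr.qe 0 k0) (df_ι.1 hv).2)
    · exact (congrArg (· ∈ G0 φ y) (p2 v hv)).mpr (h.dmem (fr.qf 0 k0) (df_ι.1 hv).2)
  by_cases u0 : u = 0
  · have := h.smul u v 0 hu hv
    rw [zero_smul, zero_smul, h.y_zero hu] at this
    rw [u0, this]
    exact one_mem _
  obtain ⟨u', -, hu'⟩ := h.exists_partner (T := ⊥) hu u0 fun t ht => by
    rw [(Submodule.mem_bot F).1 ht, polar_zero_right]
  obtain ⟨γ, hγ, k1⟩ := h.fr_conj (m := 1) (by omega) (fr.mono k0) (e' := fun _ => u) (f' := fun _ => u')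
    ⟨fun _ _ => hu, fun _ _ => hu'.hf, fun _ _ _ _ => h.pol_self u, fun _ _ _ _ => h.pol_self u',
      fun _ _ => hu'.hef, fun i _ j _ _ => by omega⟩
  obtain rfl : γ • e 0 = u := (k1 0 one_pos).1
  have k2 : polar Q (e 0) (γ⁻¹ • v) = 0 := by rwa [← γ.pol_eq_zero, smul_inv_smul]
  rw [← smul_inv_smul γ v, ← h.eqv γ hγ _ _ (fr.qe 0 k0) k2]
  refine mul_mem (mul_mem (L1 (ph_mem γ)) ?_) (inv_mem (L1 (ph_mem γ)))
  have := xx_mem (φ := ψ) (dι c (e 0)) (dfP c 0 (γ⁻¹ • v))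
  rw [p1 _ (df_ι.2 ⟨polar_zero_right Q _, k2⟩)] at this
  change xx φ (e 0) 0 * y (e 0) (γ⁻¹ • v) ∈ _ at this
  rwa [xx_zero, one_mul] at this

end CfsgLib.SL8
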