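import Cfsg.Agent.Lib.SLD.Mdl
import Cfsg.Agent.Lib.SL8.Defs

/-! Models: automorphisms -/

set_option autoImplicit false
set_option linter.unusedSectionVars false

namespace CfsgLib.SL8

open CfsgLib.SLD Subgroup QuadraticMap CfsgLib.OrthE Module
open scoped commutatorElement Pointwise

universe u

variable {F V : Type} [Field F] [Finite F] [AddCommGroup V] [Module F V] [Finite V] {Q : QuadraticForm F V}
  {k : ℕ} {G : Type u} [Group G] [Finite G] {φ : Om Q →* G} {t : G}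

namespace Mod

variable (h : Mod Q k φ)
include h

variable {g r : G} {γ γ' : SI Q} {u v u' v' : V}

theorem ac_uniq (h1 : Ac φ g γ) (h2 : Ac φ g γ') : γ = γ' := by
  refine (inv_mul_eq_one.1 (h.cent_Om fun e he => ?_)).symm
  have := ph_inj h.inj (Om_normal.conj_mem e he γ) (Om_normal.conj_mem e he γ') ((h1 e he).symm.trans (h2 e he))
  calc e * (γ'⁻¹ * γ) = γ'⁻¹ * (γ' * e * γ'⁻¹) * γ := by group
    _ = γ'⁻¹ * γ * e := by rw [← this]; group

theorem ac_pow (h1 : Ac φ g γ) {n : ℕ} (h2 : g ^ n = 1) : γ ^ n = 1 := by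
  exact h.ac_uniq (h2 ▸ h1.pow n) (ac_one.2 (one_mem _))

theorem ac_sq (h1 : Ac φ g γ) (h2 : g * g = 1) : γ * γ = 1 := by
  exact h.ac_uniq (h2 ▸ h1.mul h1) (ac_one.2 (one_mem _))

theorem ac_two (h1 : Ac φ g γ) (h2 : IsPGroup 2 (zpowers g)) : IsPGroup 2 (zpowers γ) := by
  obtain ⟨n, hn⟩ := Core.isPGroup_zpowers_iff.1 h2
  exact Core.isPGroup_zpowers_iff.2 ⟨n, h.ac_pow h1 hn⟩

theorem ac_comm {g' : G} (h1 : Ac φ g γ) (h2 : Ac φ g' γ') (h3 : Commute g g') : Commute γ γ' := by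
  exact h.ac_uniq (h1.mul h2) (h3.eq ▸ h2.mul h1)

theorem simple' : IsSimpleGroup φ.range := by
  have := h.simple
  exact (MonoidHom.ofInjective h.inj).symm.isSimpleGroup

theorem perf' : φ.range ≤ ⁅φ.range, φ.range⁆ := by
  rw [← im_Om, ← im_comm le_rfl le_rfl]
  exact im_mono h.perf

theorem eq_one' (h1 : g ∈ φ.range) (h2 : g ∈ centralizer (φ.range : Set G)) : g = 1 := by
  obtain ⟨γ, hγ, rfl⟩ := mem_L.1 h1
  rw [h.ac_uniq (ac_ph hγ) (ac_one.2 h2), ph_one]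

theorem xx_ne (r : RP Q u v) : xx φ u v ≠ 1 := by
  exact fun e => h.ρ_ne_one r (ph_eq_one h.inj (ρ_mem Q u v) e)

theorem rt_ne (hr : Rt φ r) : r ≠ 1 := by
  obtain ⟨u, v, r, rfl⟩ := hr
  exact h.xx_ne r

theorem not_cent : ¬ φ.range ≤ centralizer (φ.range : Set G) := by
  obtain ⟨e, f, fr⟩ := h.exists_fr
  have := h.four
  exact fun k1 => h.xx_ne (fr.rp (i := 0) (j := 1) (by omega) (by omega) (by omega))
    (h.eq_one' (xx_mem _ _) (k1 (xx_mem _ _)))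

theorem le_of_norm {K : Subgroup G} (hK : φ.range ≤ normalizer (K : Set G)) (h1 : g ∈ K) (h2 : g ∈ φ.range)
    (h3 : g ≠ 1) : φ.range ≤ K := by
  refine subgroupOf_eq_top.1 ((h.simple'.eq_bot_or_eq_top_of_normal _
    (normal_subgroupOf_of_le_normalizer hK)).resolve_left fun e => h3 ?_)
  have h4 : (⟨g, h2⟩ : φ.range) ∈ K.subgroupOf _ := h1
  rw [e, mem_bot] at h4
  exact congrArg Subtype.val h4

theorem le_or_cent {K : Subgroup G} (h1 : φ.range ≤ normalizer (K : Set G)) (h2 : K ≤ normalizer (φ.range : Set G)) :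
    φ.range ≤ K ∨ K ≤ centralizer (φ.range : Set G) := by
  refine or_iff_not_imp_left.2 fun hn x hx l hl => ?_
  by_contra e
  refine hn (h.le_of_norm h1 (mul_mem ((mem_normalizer_iff.1 (h1 hl) x).1 hx) (inv_mem hx)) ?_ fun e' => e ?_)
  · simpa only [inv_inv, mul_assoc] using mul_mem hl ((mem_normalizer_iff.1 (h2 hx) _).1 (inv_mem hl))
  · rwa [mul_inv_eq_one, mul_inv_eq_iff_eq_mul] at e'

theorem exists_act : ∃ α : normalizer (φ.range : Set G) →* MulAut (Om Q), ∀ g e, φ (α g e) = g * φ e * (g : G)⁻¹ := by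
  exact ⟨(MulAut.congr (MonoidHom.ofInjective h.inj).symm).toMonoidHom.comp φ.range.normalizerMonoidHom,
    fun g e => MonoidHom.apply_ofInjective_symm h.inj _⟩

theorem ac_iff {β : MulAut (Om Q)} (hβ : ∀ e, φ (β e) = g * φ e * g⁻¹) :
    Ac φ g γ ↔ ∀ e : Om Q, (β e : SI Q) = γ * e * γ⁻¹ :=
  ⟨fun k e => ph_inj h.inj (β e).2 (Om_normal.conj_mem _ e.2 γ) (by rw [← k e e.2, ph_coe, ph_coe, hβ]),
    fun k e he => by rw [← k ⟨e, he⟩, ph_coe, hβ, ph_eq he]⟩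

theorem mem_sup_iff : g ∈ φ.range ⊔ centralizer (φ.range : Set G) ↔ ∃ γ ∈ Om Q, Ac φ g γ := by
  have _ := h
  refine ⟨fun k1 => ?_, fun ⟨γ, hγ, k1⟩ => ?_⟩
  · obtain ⟨l, hl, c, hc, rfl⟩ := (Core.mem_sup_of_le_normalizer_left (centralizer_le_normalizer _)).1 k1
    obtain ⟨γ, hγ, rfl⟩ := mem_L.1 hl
    exact ⟨γ, hγ, mul_one γ ▸ (ac_ph hγ).mul (ac_one.2 hc)⟩
  · obtain ⟨c, hc, rfl⟩ := k1.split hγ
    exact mul_mem_sup (ph_mem γ) hc

theorem of_inner {β : MulAut (Om Q)} (hβ : ∀ e, φ (β e) = g * φ e * g⁻¹)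
    (h1 : β ∈ (MulAut.conj (G := Om Q)).range) : g ∈ φ.range ⊔ centralizer (φ.range : Set G) := by
  obtain ⟨x, rfl⟩ := h1
  exact h.mem_sup_iff.2 ⟨x, x.2, (h.ac_iff hβ).2 fun _ => rfl⟩

theorem rt_aut' (β : MulAut (Om Q)) (r : RP Q u v) : Rt φ (φ (β ⟨ρ Q u v, ρ_mem Q u v⟩)) := by
  obtain ⟨u', v', r', e⟩ := h.rt_aut β r
  exact ⟨u', v', r', by rw [← ph_coe, e]; rfl⟩

theorem rt_conj (hg : g ∈ normalizer (φ.range : Set G)) (hr : Rt φ r) : Rt φ (g * r * g⁻¹) := by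
  obtain ⟨α, hα⟩ := h.exists_act
  obtain ⟨u, v, r, rfl⟩ := hr
  have := h.rt_aut' (α ⟨g, hg⟩) r
  rwa [hα, ← ph_coe] at this

theorem rt_of_range' {φ' : Om Q →* G} (h' : Mod Q k φ') (e : φ'.range = φ.range) (hr : Rt φ' r) : Rt φ r := by
  obtain ⟨u, v, r, rfl⟩ := hr
  have := h.rt_aut' (((MonoidHom.ofInjective h'.inj).trans (MulEquiv.subgroupCongr e)).trans
    (MonoidHom.ofInjective h.inj).symm) r
  rw [MulEquiv.trans_apply, MonoidHom.apply_ofInjective_symm] at this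
  rwa [xx, ph_eq (ρ_mem Q u v)]

theorem rt_of_range {φ' : Om Q →* G} (h' : Mod Q k φ') (e : φ'.range = φ.range) : Rt φ' r ↔ Rt φ r := by
  exact ⟨h.rt_of_range' h' e, h'.rt_of_range' h e.symm⟩

/-- all root elements are conjugate -/
theorem rt_trans {r' : G} (hr : Rt φ r) (hr' : Rt φ r') : ∃ l ∈ φ.range, l * r * l⁻¹ = r' := by
  obtain ⟨u, v, r, rfl⟩ := hr
  obtain ⟨u', v', r', rfl⟩ := hr'
  obtain ⟨γ, hγ, rfl, rfl⟩ := h.rp_conj r r'
  exact ⟨_, ph_mem γ, conj_xx hγ u v⟩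

/-- a model adapted to a 2-subgroup of the normaliser -/
theorem remod {P : Subgroup G} (hP : IsPGroup 2 P) (h1 : P ≤ normalizer (φ.range : Set G)) :
    ∃ (φ' : Om Q →* G) (e f : ℕ → V), Mod Q k φ' ∧ φ'.range = φ.range ∧ Fr Q (k - 1) e f ∧
      ∀ p ∈ P, AF φ' e (k - 1) p := by
  obtain ⟨α, hα⟩ := h.exists_act
  obtain ⟨β, hβ⟩ := h.two_conj ((hP.comap_subtype (K := normalizer (φ.range : Set G))).map α)
  have h' : Mod Q k (φ.comp β.toMonoidHom) := ⟨h.toOS, h.inj.comp β.injective⟩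
  let K : Subgroup (SI Q) :=
    { carrier := {γ | ∃ p ∈ P, Ac (φ.comp β.toMonoidHom) p γ}
      one_mem' := ⟨1, one_mem _, ac_one.2 (one_mem _)⟩
      mul_mem' := fun ⟨p, hp, a⟩ ⟨p', hp', a'⟩ => ⟨_, mul_mem hp hp', a.mul a'⟩
      inv_mem' := fun ⟨p, hp, a⟩ => ⟨_, inv_mem hp, a.inv⟩ }
  obtain ⟨e, f, fr, k1⟩ := h.flag (P := K) fun ⟨γ, p, hp, a⟩ => by
    obtain ⟨n, hn⟩ := hP ⟨p, hp⟩
    exact ⟨n, Subtype.ext (h'.ac_pow a (congrArg Subtype.val hn))⟩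
  refine ⟨_, e, f, h', ?_, fr, fun p hp => ?_⟩
  · rw [MonoidHom.range_comp, MonoidHom.range_eq_top.2 β.surjective, MonoidHom.range_eq_map]
  obtain ⟨γ, hγ⟩ := hβ _ (mem_map_of_mem α (show (⟨p, h1 hp⟩ : normalizer (φ.range : Set G)) ∈ _ from hp))
  have a := (h'.ac_iff (g := p) (fun e => by simpa using hα ⟨p, h1 hp⟩ (β e))).2 hγ
  exact ⟨γ, a, k1 γ ⟨p, hp, a⟩⟩

theorem le_of_perf (hc : ∀ P ≤ centralizer (φ.range : Set G), IsPGroup 2 P → IsCyclic P) {K : Subgroup G}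
    (hK : K ≤ normalizer (φ.range : Set G)) (hp : K ≤ ⁅K, K⁆) : K ≤ φ.range := by
  obtain ⟨O, -, h1, -, -, -, h2⟩ := HX.Nrm.exists_compl _ hc
  obtain ⟨α, hα⟩ := h.exists_act
  have h3 : K ≤ φ.range ⊔ centralizer (φ.range : Set G) := fun x hx => h.of_inner (hα ⟨x, hK hx⟩)
    (h.out_perf (K := (K.subgroupOf _).map α) (by
      rw [← Subgroup.map_commutator]
      refine map_mono ((map_le_map_iff_of_injective (subtype_injective _)).1 ?_)
      rwa [Subgroup.map_commutator, subgroupOf_map_subtype, inf_eq_left.2 hK]) (mem_map_of_mem α hx))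
  suffices h : ∀ B ≤ centralizer (φ.range : Set G), K ≤ φ.range ⊔ B → K ≤ φ.range from h _ le_rfl h3
  intro B
  induction B using WellFoundedLT.induction with | ind B ih
  intro hB h4
  rcases (commutator_le_self B).lt_or_eq with h5 | h5
  · exact ih _ h5 (h5.le.trans hB) (hp.trans ((commutator_mono h4 h4).trans (HX.Nrm.commutator_sup_le hB)))
  have h6 : B ≤ O := h5.ge.trans ((commutator_mono hB hB).trans h2)
  have h7 : Odd (Nat.card B) := Nat.not_even_iff_odd.1 fun h => by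
    obtain ⟨x, hx⟩ := exists_prime_orderOf_dvd_card' 2 h.two_dvd
    have := ((h1 x).1 (h6 x.2)).2
    rw [orderOf_coe, hx] at this
    exact absurd this (by decide)
  have := FT.odd_order_solvable h7
  by_cases h8 : B = ⊥
  · rwa [h8, sup_bot_eq] at h4
  have := (nontrivial_iff_ne_bot B).2 h8
  have h9 := Group.IsSolvable.commutator_lt_top_of_nontrivial B
  rw [← map_subtype_lt_map_subtype, _root_.commutator_def, Subgroup.map_commutator, ← MonoidHom.range_eq_map,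
    range_subtype, h5] at h9
  exact h9.false.elim

theorem typ2 : ∃ (A : Type u) (_ : CommGroup A) (_ : Finite A) (ty : normalizer (φ.range : Set G) →* A), IsPGroup 2 A ∧
    ∀ g, ty g = 1 ↔ ∃ m, Odd m ∧ (g : G) ^ m ∈ φ.range ⊔ centralizer (φ.range : Set G) := by
  obtain ⟨α, hα⟩ := h.exists_act
  obtain ⟨A, i1, i2, ty, k1, k2⟩ := SLE.exists_two_hom
    (map_subtype_le ((commutator (MulAut (Om Q))).comap α)) fun a ha b hb =>
      ⟨⁅(⟨a, ha⟩ : normalizer (φ.range : Set G)), ⟨b, hb⟩⁆, by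
        rw [SetLike.mem_coe, mem_comap, map_commutatorElement]
        exact commutator_mem_commutator trivial trivial, rfl⟩
  refine ⟨A, i1, i2, ty, k1, fun g => (k2 g).trans ⟨?_, ?_⟩⟩
  · rintro ⟨m, hm, x, hx, e⟩
    obtain ⟨n, hn, k3⟩ := h.out_odd hx
    rw [← map_pow] at k3
    exact ⟨m * n, hm.mul hn, by rw [pow_mul, ← e]; exact h.of_inner (hα _) k3⟩
  · rintro ⟨m, hm, k3⟩
    obtain ⟨γ, hγ, k4⟩ := h.mem_sup_iff.1 k3
    refine ⟨m, hm, g ^ m, ?_, rfl⟩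
    rw [SetLike.mem_coe, mem_comap, show α (g ^ m) = auC Q γ from
      MulEquiv.ext fun e => Subtype.ext ((h.ac_iff (hα _)).1 k4 e)]
    have := mem_map_of_mem (auC Q) (h.perf hγ)
    rw [Subgroup.map_commutator] at this
    exact commutator_mono le_top le_top this

theorem inner_of_comm (h1 : g ∈ ⁅normalizer (φ.range : Set G), normalizer (φ.range : Set G)⁆) (h2 : IsPGroup 2 (zpowers g)) :
    g ∈ φ.range ⊔ centralizer (φ.range : Set G) := by
  obtain ⟨A, _, _, ty, -, k1⟩ := h.typ2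
  rw [← range_subtype (normalizer (φ.range : Set G)), MonoidHom.range_eq_map, ← Subgroup.map_commutator] at h1
  obtain ⟨x, hx, rfl⟩ := h1
  obtain ⟨m, hm, k2⟩ := (k1 x).1 (Abelianization.commutator_subset_ker ty hx)
  exact SLE.mem_of_odd_pow h2 hm k2

theorem ac_of_ns' (hg : g ∈ normalizer (φ.range : Set G)) (hu : Q u = 0) (u0 : u ≠ 0) (hv : polar Q u v = 0) (hq : Q v ≠ 0)
    (e : g * xx φ u v * g⁻¹ = xx φ u' v') : ∃ γ, Ac φ g γ := by
  obtain ⟨α, hα⟩ := h.exists_act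
  obtain ⟨γ, hγ⟩ := h.ind_of_ns (α ⟨g, hg⟩) hu u0 hv hq (u' := u') (v' := v')
    (ph_inj h.inj (Subtype.property _) (ρ_mem Q _ _) (by rw [ph_coe, hα, ← ph_coe]; exact e))
  exact ⟨γ, (h.ac_iff (hα ⟨g, hg⟩)).2 hγ⟩

theorem ac_of_ns (hg : g ∈ normalizer (φ.range : Set G)) (hu : Q u = 0) (u0 : u ≠ 0) (hv : polar Q u v = 0) (hq : Q v ≠ 0)
    (e : Commute g (xx φ u v)) : ∃ γ, Ac φ g γ := by
  exact h.ac_of_ns' hg hu u0 hv hq (by rw [e.eq, mul_inv_cancel_right])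

end Mod

end CfsgLib.SL8
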