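import Cfsg.Agent.Lib.SLD.Dblp
import Cfsg.Agent.Lib.SL8.Dbl1
import Cfsg.Agent.Lib.SL8.Top
import Cfsg.Agent.Lib.SL8.Wrp

/-! The product case -/

set_option autoImplicit false
set_option linter.unusedSectionVars false

namespace CfsgLib.SL8

open CfsgLib.SLD Subgroup QuadraticMap CfsgLib.OrthE Module
open scoped commutatorElement Pointwise

universe u

variable {F V : Type} [Field F] [Finite F] [AddCommGroup V] [Module F V] [Finite V] {Q : QuadraticForm F V}
  {k : ℕ} {G : Type u} [Group G] [Finite G] {φ : Om Q →* G} {t : G} {y : V → V → G} {c : F}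

namespace DP

open D1 SLD.D1 SLD.DP

variable (φ y)

variable {φ y} {ε ε' : HX.QA F c} {u u' v v' w w' : V}

variable (h : HV Q k φ t y c)
include h

theorem xe_add (hu : Q u = 0) (hv : polar Q u v = 0) (hw : polar Q u w = 0) :
    xe φ y ε u (v + w) = xe φ y ε u v * xe φ y ε u w := by
  have a := (or_ι (c := c) hv).smul ε
  have b := (or_ι (c := c) hw).smul ε
  rw [xe, map_add, smul_add, h.dadd hu a.1 a.2 b.1 b.2, xe, xe]

theorem xe_self (hu : Q u = 0) (hv : polar Q u v = 0) (s : F) : xe φ y ε u (v + s • u) = xe φ y ε u v := by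
  rw [xe_add h hu hv (by rw [polar_smul_right, h.pol_self, smul_zero]), xe, xe, ι_smul, smul_smul,
    h.dself hu, mul_one]

theorem xe_swap (hu : Q u = 0) (hv : Q v = 0) (h0 : polar Q u v = 0) : xe φ y ε u v = xe φ y ε v u :=
  h.dswap hu hv h0 ε

theorem xe_com0 (e : ε * ε' = 0) (hu : Q u = 0) (hu' : Q u' = 0) (h0 : polar Q u u' = 0)
    (h1 : polar Q u w = 0) (h2 : polar Q u' w = 0) (h3 : polar Q u' w' = 0) :
    Commute (xe φ y ε u w) (xe φ y ε' u' w') := by
  have a := (or_ι (c := c) h1).smul ε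
  have b := (or_ι (c := c) h2).smul ε
  have d := (or_ι (c := c) h3).smul ε'
  have := h.dconj hu hu' h0 a.1 a.2 b.1 b.2 d.1 d.2
  rwa [dE_zero e, mul_inv_eq_iff_eq_mul] at this

theorem xe_conj (e : ε * ε = ε) (hu : Q u = 0) (hu' : Q u' = 0) (h0 : polar Q u u' = 0)
    (h1 : polar Q u w = 0) (h2 : polar Q u' w = 0) (h3 : polar Q u w' = 0) (h4 : polar Q u' w' = 0)
    (h5 : polar Q w w' = 1) :
    xe φ y ε u u' = (xe φ y ε u' w')⁻¹ * (xe φ y ε u w * xe φ y ε u' w' * (xe φ y ε u w)⁻¹) := by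
  have a := (or_ι (c := c) h1).smul ε
  have b := (or_ι (c := c) h2).smul ε
  have d := (or_ι (c := c) h4).smul ε
  have := h.dconj hu hu' h0 a.1 a.2 b.1 b.2 d.1 d.2
  rw [dE_or ((or_ι h3).smul ε), dB_smul, dB_comm, dB_smul, ← mul_assoc, e,
    show dB Q c (dι c w) (dι c w') = 1 by ext <;> simp [dB, h5, QuadraticAlgebra.re_one,
      QuadraticAlgebra.im_one], mul_one, ← smul_add, ← map_add] at this
  rw [eq_inv_mul_iff_mul_eq, xe_swap h hu hu' h0, ← xe_add h hu' h4 (polar_comm Q _ _ ▸ h0)]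
  exact this.symm

theorem xe_com1 (e : ε * ε' = 0) (e' : ε * ε = ε) (hu : Q u = 0) (hv : Q v = 0) (hu' : Q u' = 0)
    (hv' : Q v' = 0) (h1 : polar Q u v = 0) (h2 : polar Q u' v' = 0) (h3 : polar Q u v' = 0) :
    Commute (xe φ y ε u v) (xe φ y ε' u' v') := by
  by_cases h0 : polar Q u u' = 0
  · exact (xe_com0 h (mul_comm ε ε' ▸ e) hu' hu (polar_comm Q _ _ ▸ h0) h2 h3 h1).symm
  obtain ⟨b, hb⟩ : ∃ b, b = v + ((polar Q u u')⁻¹ * polar Q v u') • u := ⟨_, rfl⟩
  have b1 : Q b = 0 := hb ▸ q_add hu hv h1 _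
  have b2 : polar Q u b = 0 := by simp [hb, polar_add_right, polar_smul_right, h1, h.pol_self]
  have b3 : polar Q b u' = 0 := by
    rw [hb, polar_add_left, polar_smul_left, smul_eq_mul, mul_right_comm, inv_mul_cancel₀ h0, one_mul,
      h.addF]
  obtain ⟨p, hp, p', hp', h4⟩ := pair4 h.toOS0 b v' h0
  simp only [pp_sup, Submodule.mem_inf, mem_pp_ln, polar_comm Q p, polar_comm Q p'] at hp hp'
  have c1 := xe_com0 h e hu hv' h3 hp.1.1 hp.2.2 (polar_comm Q _ _ ▸ h2)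
  rw [← xe_swap h hu' hv' h2] at c1
  have c2 := xe_com0 h e b1 hu' b3 hp'.1.2 hp'.2.1 h2
  rw [← xe_self h hu h1, ← hb, xe_conj h e' hu b1 b2 hp.1.1 hp.1.2 hp'.1.1 hp'.1.2 h4]
  exact c2.inv_left.mul_left ((c1.mul_left c2).mul_left c1.inv_left)

theorem xe_com2 (e : ε * ε' = 0) (e' : ε * ε = ε) (hu : Q u = 0) (hv : Q v = 0) (hu' : Q u' = 0)
    (hv' : Q v' = 0) (h1 : polar Q u v = 0) (h2 : polar Q u' v' = 0) :
    Commute (xe φ y ε u v) (xe φ y ε' u' v') := by
  by_cases h0 : polar Q u v' = 0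
  · exact xe_com1 h e e' hu hv hu' hv' h1 h2 h0
  have b2 : polar Q u (v + ((polar Q u v')⁻¹ * polar Q v v') • u) = 0 := by
    simp [polar_add_right, polar_smul_right, h1, h.pol_self]
  rw [← xe_self h hu h1, xe_swap h hu (q_add hu hv h1 _) b2]
  refine xe_com1 h e e' (q_add hu hv h1 _) hu hu' hv' (polar_comm Q _ _ ▸ b2) h2 ?_
  rw [polar_add_left, polar_smul_left, smul_eq_mul, mul_right_comm, inv_mul_cancel₀ h0, one_mul, h.addF]

theorem Me_com (e : ε * ε' = 0) (e' : ε * ε = ε) {a b : G} (ha : a ∈ Me φ y ε) (hb : b ∈ Me φ y ε') :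
    Commute a b := by
  have : Me φ y ε ≤ centralizer (Me φ y ε' : Set G) := (closure_le _).2 (by
    rintro _ ⟨u, v, hu, hv, rfl⟩
    refine sing_ind h.toOS0 (fun _ _ => xe_add h hu) _ (fun v h1 h2 => ?_) hv
    have : Me φ y ε' ≤ centralizer {xe φ y ε u v} := (closure_le _).2 (by
      rintro _ ⟨u', v', hu', hv', rfl⟩
      exact sing_ind h.toOS0 (fun _ _ => xe_add h hu') _ (fun v' h3 h4 =>
        mem_centralizer_singleton_iff.2 (xe_com2 h e e' hu h2 hu' h4 h1 h3).symm) hv')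
    exact fun g hg => mem_centralizer_singleton_iff.1 (this hg))
  exact (this ha b hb).symm

theorem xe_mul (e : ε + ε' = 1) (hu : Q u = 0) (hv : polar Q u v = 0) :
    xx φ u v = xe φ y ε u v * xe φ y ε' u v := by
  have a := (or_ι (c := c) hv).smul ε
  have b := (or_ι (c := c) hv).smul ε'
  rw [xe, xe, ← h.dadd hu a.1 a.2 b.1 b.2, ← add_smul, e, one_smul, h.dre hu]

theorem exists_φ (e : ε * ε' = 0) (e' : ε * ε = ε) (e1 : ε + ε' = 1) (hG : G0 φ y ≤ Me φ y ε ⊔ Me φ y ε') :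
    ∃ ψ : Om Q →* G, ∀ u v, Q u = 0 → polar Q u v = 0 → xx ψ u v = xe φ y ε u v := by
  let z : V → V → G × Om Q := fun u v => (xe φ y ε u v, ⟨ρ Q u v, ρ_mem Q u v⟩)
  let Γ := closure {g | ∃ u v, Q u = 0 ∧ polar Q u v = 0 ∧ g = z u v}
  have m : ∀ {u v}, Q u = 0 → polar Q u v = 0 → z u v ∈ Γ := fun hu hv => subset_closure ⟨_, _, hu, hv, rfl⟩
  have key : ∀ x ∈ Γ, x.1 ∈ Me φ y ε ∧ x.1⁻¹ * φ x.2 ∈ Me φ y ε' := fun x hx => by
    induction hx using closure_induction with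
    | mem x hx =>
      obtain ⟨u, v, hu, hv, rfl⟩ := hx
      refine ⟨xe_mem hu hv, ?_⟩
      rw [← ph_coe]
      show _ * xx φ u v ∈ _
      rw [xe_mul h e1 hu hv, inv_mul_cancel_left]
      exact xe_mem hu hv
    | one => exact ⟨one_mem _, by simp⟩
    | mul a b _ _ ha hb =>
      refine ⟨mul_mem ha.1 hb.1, ?_⟩
      have := mul_mem ha.2 hb.2
      rw [← mul_assoc, ← (Me_com h e e' (inv_mem hb.1) ha.2).eq] at this
      simpa only [Prod.fst_mul, Prod.snd_mul, map_mul, mul_inv_rev, mul_assoc] using this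
    | inv a _ ha =>
      refine ⟨inv_mem ha.1, ?_⟩
      have := inv_mem ha.2
      rw [← mul_inv_eq_iff_eq_mul.2 (Me_com h e e' ha.1 this).eq] at this
      simpa [mul_assoc] using this
  obtain ⟨ψ, hψ⟩ := exists_hom h.toOS.m2 (Γ := Γ) ((closure_le _).2 (by
    rintro _ ⟨u, v, hu, hv, rfl⟩
    refine sing_ind h.toOS0 (z := z u) (fun a b ha hb => Prod.ext (xe_add h hu ha hb)
      (Subtype.ext (ρ_mul hu ha hb).symm)) _ (fun v h1 h2 => ?_) hv
    obtain ⟨p, hp, p', hp', h4⟩ := pair2 h.toOS0 u v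
    rw [mem_pp_ln, polar_comm, polar_comm Q _ v] at hp hp'
    have : z u v = ⁅(z v p')⁻¹, z u p⁆ := Prod.ext
      ((xe_conj h e' hu h2 h1 hp.1 hp.2 hp'.1 hp'.2 h4).trans (by
        simp only [z, commutatorElement_def, Prod.fst_mul, Prod.fst_inv, inv_inv, mul_assoc]))
      (Subtype.ext (by
        have := h.ρ_conj_ρ hu h2 h1 hp.1 hp.2 hp'.1 hp'.2
        rw [h4, one_smul, ← inv_mul_eq_iff_eq_mul] at this
        simp only [z, commutatorElement_def, Prod.snd_mul, Prod.snd_inv, inv_inv, mul_assoc, coe_mul, coe_inv,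
          ← this]))
    exact this ▸ commutator_mem_commutator (inv_mem (m h2 hp'.2)) (m hu hp.1))) (fun a => by
      obtain ⟨x, hx, rfl⟩ : a ∈ Γ.map (MonoidHom.snd _ _) := om_top (fun u v hu hv => mem_map.2 ⟨_, m hu hv, rfl⟩) a
      exact ⟨x.1, hx⟩) fun g hg => by
    obtain ⟨g1, g2⟩ := key _ hg
    rw [map_one, mul_one, inv_mem_iff] at g2
    have : Me φ y ε ⊔ Me φ y ε' ≤ centralizer {g} := sup_le
      (fun a ha => mem_centralizer_singleton_iff.2 (Me_com h e e' ha g2))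
      fun a ha => mem_centralizer_singleton_iff.2 (Me_com h e e' g1 ha).symm
    exact ⟨UFP.odd_orderOf h.cent_odd fun a ha => mem_centralizer_singleton_iff.1 (this (hG ha)),
      fun x hx => Me_com h e e' (key x hx).1 g2⟩
  exact ⟨ψ, fun u v hu hv => (ph_eq _).trans ((hψ _ _).1 (m hu hv))⟩

end DP

open DP D1

theorem HV.prod (h : HV Q k φ t y c) {r : F} (hc : r * r + r = c) : ∃ φ₁ φ₂, DblP φ k t y c φ₁ φ₂ := by
  obtain ⟨ε, hε⟩ : ∃ ε : HX.QA F c, ε = ⟨r, 1⟩ := ⟨_, rfl⟩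
  obtain ⟨ε', hε'⟩ : ∃ ε : HX.QA F c, ε = ⟨r + 1, 1⟩ := ⟨_, rfl⟩
  have two := h.two
  have e : ε * ε' = 0 := by
    rw [hε, hε']; ext <;> simp
    · linear_combination (-1) * hc + (r * r + r) * two
    · linear_combination (r + 1) * two
  have e' : ε * ε = ε := by
    rw [hε]; ext <;> simp
    · linear_combination (-1) * hc + (r * r) * two
    · linear_combination r * two
  have e1 : ε + ε' = 1 := by
    rw [hε, hε']; ext <;> simp [QuadraticAlgebra.re_one, QuadraticAlgebra.im_one]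
    · linear_combination r * two
    · linear_combination two
  have hG : G0 φ y ≤ Me φ y ε ⊔ Me φ y ε' := G0_le_iff.2 ⟨L_le fun u v hu hv => by
    rw [xe_mul h e1 hu hv]
    exact mul_mem (mem_sup_left (xe_mem hu hv)) (mem_sup_right (xe_mem hu hv)), fun u v hu hv => by
    have s : ∀ a : F, polar Q u (a • v) = 0 := fun a => by rw [polar_smul_right, hv, smul_zero]
    have a := (or_ι (c := c) (s (r + 1))).smul ε
    have b := (or_ι (c := c) (s r)).smul ε'
    have := mul_mem (mem_sup_left (xe_mem (φ := φ) (y := y) (ε := ε) hu (s (r + 1))) :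
      _ ∈ Me φ y ε ⊔ Me φ y ε') (mem_sup_right (xe_mem hu (s r)))
    rwa [xe, xe, ← h.dadd hu a.1 a.2 b.1 b.2, show ε • dι c ((r + 1) • v) + ε' • dι c (r • v) = vv c 0 v from
      D1.ext (by
        simp only [hε, hε', add1, smι1, vv1]
        linear_combination (norm := module) (r * r + r) • h.addV v) (by
        simp only [hε, hε', add2, smι2, vv2]
        linear_combination (norm := module) r • h.addV v), h.dimg] at this⟩
  obtain ⟨ψ, hψ⟩ := exists_φ h e e' e1 hG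
  have hψ' : ∀ u v, Q u = 0 → polar Q u v = 0 → xx (cj ψ t) u v = xe φ y ε' u v := fun u v hu hv => by
    have a := (or_ι (c := c) hv).smul ε
    rw [xx_cj, hψ u v hu hv, xe, h.dt hu a.1 a.2, xe]
    congr 1
    exact D1.ext (by simp [hε, hε', add_smul]) (by simp [hε, hε'])
  have r1 : ψ.range = Me φ y ε := le_antisymm (L_le fun u v hu hv => hψ u v hu hv ▸ xe_mem hu hv)
    ((closure_le _).2 (by rintro _ ⟨u, v, hu, hv, rfl⟩; exact hψ u v hu hv ▸ xx_mem u v))
  have r2 : (cj ψ t).range = Me φ y ε' := le_antisymm (L_le fun u v hu hv => hψ' u v hu hv ▸ xe_mem hu hv)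
    ((closure_le _).2 (by rintro _ ⟨u, v, hu, hv, rfl⟩; exact hψ' u v hu hv ▸ xx_mem u v))
  have c12 : ∀ a b, Commute (ψ a) (cj ψ t b) := fun a b => Me_com h e e' (r1.le ⟨a, rfl⟩) (r2.le ⟨b, rfl⟩)
  have ext : ∀ a, φ a = ψ a * cj ψ t a := om_top
    (K := φ.eqLocus ((ψ.noncommCoprod _ c12).comp ((MonoidHom.id _).prod (MonoidHom.id _))))
    fun u v hu hv => by
      have := xe_mul h e1 hu hv
      rwa [← hψ u v hu hv, ← hψ' u v hu hv, xx, xx, xx, ph_eq (ρ_mem Q u v), ph_eq (ρ_mem Q u v),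
        ph_eq (ρ_mem Q u v)] at this
  haveI := h.simple
  have i1 : Function.Injective ψ := by
    rw [← MonoidHom.ker_eq_bot_iff]
    refine ψ.normal_ker.eq_bot_or_eq_top.resolve_right fun e => ?_
    obtain ⟨a, ha⟩ := exists_ne (1 : Om Q)
    have : ψ a = 1 := e.ge (mem_top a)
    refine ha (h.inj ?_)
    rw [ext a, map_one]
    show ψ a * (t * ψ a * t⁻¹) = 1
    rw [this]; group
  refine ⟨ψ, cj ψ t, h, i1, (MulAut.conj t).injective.comp i1, c12, ext, fun _ => rfl, ?_⟩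
  rw [r1, r2]
  refine le_antisymm (sup_le ?_ ?_) hG <;> exact (closure_le _).2 (by
    rintro _ ⟨u, v, hu, hv, rfl⟩; exact h.dmem hu ((or_ι hv).smul _).2)

end CfsgLib.SL8
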