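import Cfsg.Agent.Lib.SLD.Sml
import Cfsg.Agent.Lib.SL8.Loc

/-! Models: orders of subgroups -/

set_option autoImplicit false
set_option linter.unusedSectionVars false

namespace CfsgLib.SL8

open CfsgLib.SLD Subgroup QuadraticMap CfsgLib.OrthE Module
open scoped commutatorElement Pointwise

universe u

variable {F V : Type} [Field F] [Finite F] [AddCommGroup V] [Module F V] [Finite V] {Q : QuadraticForm F V}
  {k : ℕ} {G : Type u} [Group G] [Finite G] {φ : Om Q →* G} {t : G}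

namespace Mod

variable (h : Mod Q k φ)
include h

variable {s : G} {γ : SI Q}

theorem lin_big (h1 : Ac φ s γ) (s2 : s * s = 1) (hσ : γ.σ = 1) :
    ∃ D ≤ φ.range ⊓ centralizer {s}, (∀ d ∈ D, d * d = 1) ∧ Nat.card F ^ (k * (k - 1)) ≤ Nat.card D ^ 2 := by
  obtain ⟨D, d1, d2, d3, d4⟩ := h.bigab hσ (h.ac_sq h1 s2)
  refine ⟨im φ D, le_inf (im_le_L D) (im_le.2 fun d hd hO =>
    mem_centralizer_singleton_iff.2 (h1.comm hO (d3 d hd).symm).symm.eq), fun g hg => ?_,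
    by rwa [card_im h.inj d1]⟩
  obtain ⟨d, hd, hO, rfl⟩ := mem_im.1 hg
  rw [← ph_mul hO hO, d2 d hd, ph_one]

theorem semi_big (h1 : Ac φ s γ) (s2 : s * s = 1) (hσ : γ.σ ≠ 1) : 4 ≤ Nat.card F ∧
    IsSimpleGroup (φ.range ⊓ centralizer {s} : Subgroup G) ∧
    φ.range ⊓ centralizer {s} ≤ ⁅φ.range ⊓ centralizer {s}, φ.range ⊓ centralizer {s}⁆ ∧
    ∃ X ≤ φ.range ⊓ centralizer {s}, IsPGroup 2 X ∧ Nat.card X ^ 2 = Nat.card F ^ (k * (k - 1)) := by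
  obtain ⟨F₀, _, _, j, hj⟩ := exists_fld γ.σ
  obtain ⟨V₀, _, _, _, Q₀, ι, ds⟩ := exists_ds (h.ac_sq h1 s2) hσ j hj
  obtain ⟨d, d1, -, -, d2⟩ := ds.exists_hom h.toOS0
  have h0 := ds.os0 h.toOS0
  have i0 : Function.Injective (φ.comp d) := h.inj.comp d1
  have e : φ.range ⊓ centralizer {s} = (φ.comp d).range := by
    ext g
    constructor
    · rintro ⟨⟨b, rfl⟩, hb⟩
      obtain ⟨a, rfl⟩ := (d2 b).2 ((Ac.comm_iff h.inj h1 b.2).1 (by
        rw [ph_coe]; exact (mem_centralizer_singleton_iff.1 hb).symm))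
      exact ⟨a, rfl⟩
    · rintro ⟨a, rfl⟩
      have := h1.comm (d a).2 ((d2 _).1 ⟨a, rfl⟩)
      rw [ph_coe] at this
      exact ⟨⟨d a, rfl⟩, mem_centralizer_singleton_iff.2 this.symm.eq⟩
  obtain ⟨e0, f0, fr⟩ := h0.exists_fr
  have := h0.simple
  rw [e]
  refine ⟨?_, (MonoidHom.ofInjective i0).symm.isSimpleGroup, ?_, im (φ.comp d) (UF Q₀ e0 (k - 1)), im_le_L _,
    pg_im (h0.UF_two fr), ?_⟩
  · rw [ds.card]
    exact Nat.pow_le_pow_left (Finite.one_lt_card (α := F₀)) 2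
  · rw [← im_Om, ← im_comm le_rfl le_rfl]
    exact im_mono h0.perf
  · rw [card_im i0 (UF_le_Om _ _), h0.card_UF fr, ds.card, ← pow_mul, ← pow_mul, mul_comm]

theorem no_prod {M₁ M₂ X₁ X₂ : Subgroup G} (hs : IsSimpleGroup M₁) (hp : M₁ ≤ ⁅M₁, M₁⁆) (h1 : M₁ ≤ φ.range)
    (h2 : M₂ ≤ φ.range) (hc : ∀ a ∈ M₁, ∀ b ∈ M₂, Commute a b) (x1 : X₁ ≤ M₁) (x2 : X₂ ≤ M₂)
    (p1 : IsPGroup 2 X₁) (p2 : IsPGroup 2 X₂) (h0 : X₂ ≠ ⊥)
    (hq : Nat.card F ^ (k * (k - 1)) ≤ Nat.card X₁ * Nat.card X₂) : False := by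
  have c1 : M₁ ≤ centralizer (M₂ : Set G) := fun a ha b hb => (hc a ha b hb).symm.eq
  have n2 : ∀ K : Subgroup G, M₁ ≤ K → ¬ IsPGroup 2 K := fun K hK hP =>
    sm_ns hs hp (by have := (hP.to_le hK).isNilpotent; infer_instance)
  have na : ∀ K : Subgroup G, M₁ ≤ K → ¬ M₁ ≤ centralizer (K : Set G) := fun K hK hP =>
    sm_ns hs hp (isSolvable_of_comm fun a b => Subtype.ext (hP b.2 a (hK a.2)))
  have cx : ∀ a ∈ X₁, ∀ b ∈ X₂, a * b = b * a := fun a ha b hb => hc a (x1 ha) b (x2 hb)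
  obtain ⟨e, f, fr, hU⟩ := h.two_eq (SLE.pg_sup_comm p1 p2 cx) (sup_le (x1.trans h1) (x2.trans h2))
    (hq.trans (SLE.card_sup_comm cx fun a ha hb => by_contra fun a1 => by
      have := sm_le hs (c1.trans (centralizer_le_normalizer _)) (x2 hb) (x1 ha) a1
      exact na M₂ this c1))
  have := (nontrivial_iff_ne_bot X₂).2 h0
  have := p2.center_nontrivial
  obtain ⟨⟨z, hz⟩, z1⟩ := exists_ne (1 : center X₂)
  have r : RP Q (e 0) (e 1) := fr.rp (by have := h.four; omega) (by have := h.four; omega) zero_ne_one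
  have hz' : (z : G) ∈ im φ (Z Q (e 0) (e 1)) := by
    rw [← h.U_inf_cent fr, ← hU]
    refine ⟨mem_sup_right z.2, fun g hg => ?_⟩
    obtain ⟨a, ha, b, hb, rfl⟩ := SLE.mem_sup_comm cx hg
    exact (Commute.mul_left (cx a ha z z.2) (congrArg Subtype.val (mem_center_iff.1 hz ⟨b, hb⟩))).eq
  obtain ⟨_, hγ, -, ez⟩ := mem_im.1 hz'
  obtain ⟨s, rfl⟩ := (mem_Z r.qu r.uv).1 hγ
  have s0 : s ≠ 0 := by
    rintro rfl
    rw [zero_smul, ρ_zero, ph_one] at ez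
    exact z1 (Subtype.ext (Subtype.ext ez))
  have el : ln F (e 0) (s • e 1) = ln F (e 0) (e 1) := by
    rw [ln, ln, Submodule.span_insert, Submodule.span_insert, Submodule.span_singleton_smul_eq s0.isUnit]
  have nq : M₁ ≤ normalizer (im φ (NT Q (ln F (e 0) (e 1))) : Set G) := fun a ha => el ▸
    h.nQ (r.smul s0) (le_normalizer (h1 ha)) (by rw [xx, ← ez]; exact hc a ha z (x2 z.2))
  have qn : im φ (NT Q (ln F (e 0) (e 1))) ≤ normalizer (M₁ : Set G) := by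
    refine (im_mono (h.NT_le_UF' fr)).trans (hU ▸ sup_le (x1.trans le_normalizer) fun b hb => ?_)
    exact centralizer_le_normalizer _ fun a ha => hc a ha b (x2 hb)
  have mc : M₁ ≤ centralizer (im φ (NT Q (ln F (e 0) (e 1))) : Set G) := fun l hl x hx => by_contra fun ne => by
    refine n2 _ (sm_le hs nq (mul_mem ((mem_normalizer_iff.1 (nq hl) x).1 hx) (inv_mem hx)) ?_ fun e' => ne ?_)
      (pg_im (h.NT_two r.ts))
    · simpa only [inv_inv, mul_assoc] using mul_mem hl ((mem_normalizer_iff.1 (qn hx) _).1 (inv_mem hl))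
    · rw [mul_inv_eq_one, mul_inv_eq_iff_eq_mul] at e'
      exact e'.symm
  refine na _ (fun g hg => ?_) mc
  obtain ⟨a, ha, rfl⟩ := mem_L.1 (h1 hg)
  exact ph_mem_im (h.Z_le_NT r (h.cQ r ((Ac.cent_iff h.inj (ac_ph ha) (h.NT_le_Om r.ts)).1 (mc hg))))

end Mod

namespace Sit

variable (h : Sit Q k φ t)
include h

theorem idx8 {P : Subgroup G} (h1 : ∀ p ∈ P, p * p = 1) (h2 : P ≤ centralizer {t}) :
    Nat.card P ≤ 8 * Nat.card (P ⊓ φ.range : Subgroup G) := by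
  obtain ⟨ψ, e, f, m, er, -, af⟩ := h.remod (sm_pg h1) fun p hp => h.cN (mem_centralizer_singleton_iff.1 (h2 hp))
  have h' := h.of_range m er
  have k1 := sm_idx2 (P := P) (P' := smN ψ) fun a ha b hb a1 b1 => by
    obtain ⟨γ, g1, -⟩ := af a ha
    obtain ⟨δ, g2, -⟩ := af b hb
    have s1 : γ.σ * γ.σ = 1 := by rw [← σ_mul, m.ac_sq g1 (h1 a ha), σ_one]
    have s2 : δ.σ * δ.σ = 1 := by rw [← σ_mul, m.ac_sq g2 (h1 b hb), σ_one]
    exact ⟨_, g1.mul g2, by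
      rw [σ_mul, σ_eq_of_sq s1 s2 (fun e => a1 ⟨γ, g1, e⟩) (fun e => b1 ⟨δ, g2, e⟩), s2]⟩
  have k2 := sm_idx2 (P := P ⊓ smN ψ) (P' := ψ.range ⊔ centralizer (ψ.range : Set G)) fun a ha b hb a1 b1 => by
    obtain ⟨γ, g1, s1⟩ := ha.2
    obtain ⟨δ, g2, s2⟩ := hb.2
    exact m.mem_sup_iff.2 ⟨_, m.mul_mem_of_not s1 s2 (fun e => a1 (m.mem_sup_iff.2 ⟨γ, e, g1⟩))
      (fun e => b1 (m.mem_sup_iff.2 ⟨δ, e, g2⟩)), g1.mul g2⟩
  have k : ∀ a ∈ P, a ∈ ψ.range ⊔ centralizer (ψ.range : Set G) → a ∉ ψ.range → ∃ w ∈ ψ.range, a = w * t := by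
    intro a ha a0 a1
    obtain ⟨γ, hγ, g1⟩ := m.mem_sup_iff.1 a0
    obtain ⟨c, hc, rfl⟩ := g1.split hγ
    obtain rfl | rfl := h'.eq_t (ph_mem γ) hc (by rw [← ph_mul hγ hγ, m.ac_sq g1 (h1 _ ha), ph_one]) (h1 _ ha)
      (mem_centralizer_singleton_iff.1 (h2 ha))
    · exact (a1 (mul_mem (ph_mem γ) (one_mem _))).elim
    · exact ⟨_, ph_mem γ, rfl⟩
  have k3 := sm_idx2 (P := P ⊓ smN ψ ⊓ (ψ.range ⊔ centralizer (ψ.range : Set G))) (P' := ψ.range)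
    fun a ha b hb a1 b1 => by
      obtain ⟨w, hw, rfl⟩ := k a ha.1.1 ha.2 a1
      obtain ⟨w', hw', rfl⟩ := k b hb.1.1 hb.2 b1
      rw [(h'.com hw').symm.mul_mul_mul_comm, h.t2, mul_one]
      exact mul_mem hw hw'
  have k4 := card_le_of_le (show P ⊓ smN ψ ⊓ (ψ.range ⊔ centralizer (ψ.range : Set G)) ⊓ ψ.range ≤ P ⊓ φ.range from
    inf_le_inf (inf_le_left.trans inf_le_left) er.le)
  omega

theorem small' {D : Subgroup G} (h1 : ∀ d ∈ D, d * d = 1) (h2 : D ≤ centralizer {t}) :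
    2 * Nat.card D ≤ Nat.card F ^ (k * (k - 1)) := by
  have k1 := h.idx8 h1 h2
  have hs : ∀ d ∈ D ⊓ φ.range, d * d = 1 := fun d hd => h1 d hd.1
  obtain ⟨e, f, fr, hU⟩ := h.two_le (sm_pg hs) inf_le_right
  have k2 := h.small fr (sm_pre h.inj hU) fun a ha b hb => comm_of_ph h.inj (mem_pre.1 ha).1 (mem_pre.1 hb).1
    (sm_comm hs (mem_pre.1 ha).2 (mem_pre.1 hb).2)
  rw [sm_card h.inj inf_le_right] at k2
  omega

theorem no_mix (hq : 4 ≤ Nat.card F) {D X : Subgroup G} (h1 : ∀ d ∈ D, d * d = 1) (h2 : D ≤ centralizer {t})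
    (h3 : X ≤ φ.range) (h4 : IsPGroup 2 X) (h5 : ∀ d ∈ D, ∀ x ∈ X, Commute d x) (h6 : t ∉ D ⊔ X)
    (h7 : D ⊓ X = ⊥) (h8 : Nat.card F ^ (k * (k - 1)) ≤ Nat.card D ^ 2)
    (h9 : Nat.card F ^ (k * (k - 1)) ≤ Nat.card X ^ 2) : False := by
  have ct : ∀ d ∈ D, Commute d t := fun d hd => mem_centralizer_singleton_iff.1 (h2 hd)
  have mP : ∀ p ∈ D ⊔ zpowers t, p ∈ D ∨ ∃ d ∈ D, p = d * t := fun p hp => by
    obtain ⟨a, ha, b, hb, rfl⟩ := SLE.mem_sup_comm (fun a ha b hb => by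
      obtain ⟨n, rfl⟩ := hb; exact (ct a ha).zpow_right n) hp
    obtain rfl | rfl := sm_zp h.t2 hb
    · exact .inl (mul_mem ha (one_mem _))
    · exact .inr ⟨a, ha, rfl⟩
  have p2 : ∀ p ∈ D ⊔ zpowers t, p * p = 1 := fun p hp => by
    obtain hp | ⟨d, hd, rfl⟩ := mP p hp
    · exact h1 p hp
    · rw [(ct d hd).symm.mul_mul_mul_comm, h1 d hd, h.t2, mul_one]
  have k1 := h.idx8 p2 (sup_le h2 (zpowers_le.2 (mem_centralizer_singleton_iff.2 rfl)))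
  have k2 := SLE.card_sup_inv h.t2 (fun e => h6 (mem_sup_left e))
    (centralizer_le_normalizer _ fun d hd => (ct d hd).eq)
  set D' := (D ⊔ zpowers t) ⊓ φ.range
  have hs : ∀ d ∈ D', d * d = 1 := fun d hd => p2 d hd.1
  have cx : ∀ d ∈ D', ∀ x ∈ X, d * x = x * d := fun p hp x hx => by
    obtain hp | ⟨d, hd, rfl⟩ := mP p hp.1
    · exact h5 p hp x hx
    · exact (h5 d hd x hx).mul_left (h.com (h3 hx)).symm
  have k3 := SLE.card_sup_comm cx fun p hp hx => by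
    obtain hp | ⟨d, hd, rfl⟩ := mP p hp.1
    · exact mem_bot.1 (h7 ▸ ⟨hp, hx⟩)
    · exact (h6 (by simpa using mul_mem_sup (inv_mem hd) hx)).elim
  obtain ⟨e, f, fr, hU⟩ := h.two_le (SLE.pg_sup_comm (sm_pg hs) h4 cx) (sup_le inf_le_right h3)
  have k4 : Nat.card F ^ (k * (k - 1)) ≤ Nat.card D * Nat.card X :=
    (Nat.pow_le_pow_iff_left two_ne_zero).1 (by rw [mul_pow, pow_two]; exact Nat.mul_le_mul h8 h9)
  have k5 := h.cenx hq fr (sm_pre h.inj hU) (by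
      rw [sm_card h.inj (sup_le inf_le_right h3)]
      refine k4.trans (le_trans ?_ (Nat.mul_le_mul_left 4 k3))
      rw [← mul_assoc]
      exact Nat.mul_le_mul_right _ (by omega)) (sm_pre h.inj (le_sup_left.trans hU)) fun a ha b hb => by
    obtain ⟨d, hd, x, hx, ex⟩ := SLE.mem_sup_comm cx (mem_pre.1 hb).2
    refine comm_of_ph h.inj (mem_pre.1 ha).1 (mem_pre.1 hb).1 (ex ▸ ?_)
    exact (sm_comm hs (mem_pre.1 ha).2 hd).mul_right (cx _ (mem_pre.1 ha).2 x hx)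
  rw [sm_card h.inj inf_le_right] at k5
  have k6 : Nat.card D ≤ Nat.card F ^ 4 := by
    rw [pow_succ']
    exact le_trans (show _ ≤ 4 * Nat.card D' by omega) (Nat.mul_le_mul hq k5)
  have k7 := h8.trans (Nat.pow_le_pow_left k6 2)
  rw [← pow_mul, Nat.pow_le_pow_iff_right (by omega)] at k7
  have := Nat.mul_le_mul h.four (Nat.sub_le_sub_right h.four 1)
  omega

end Sit

end CfsgLib.SL8
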