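import Cfsg.Agent.Lib.SLD.Hat2
import Cfsg.Agent.Lib.SL8.Loc

/-! The hats of the Eichler elements -/

set_option autoImplicit false
set_option linter.unusedSectionVars false

namespace CfsgLib.SL8

open CfsgLib.SLD Subgroup QuadraticMap CfsgLib.OrthE Module
open scoped commutatorElement Pointwise

universe u

variable {F V : Type} [Field F] [Finite F] [AddCommGroup V] [Module F V] [Finite V] {Q : QuadraticForm F V}
  {k : ℕ} {G : Type u} [Group G] [Finite G] {φ : Om Q →* G} {t : G} {η : G → G} {c : F}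

namespace HR

variable (h : HR Q k φ t η c)
include h

theorem sq' {u v : V} (hu : Q u = 0) (hv : Q v = 0) (h1 : polar Q u v = 0) :
    η (xx φ u v) * η (xx φ u v) = 1 := by
  by_cases u0 : u = 0
  · rw [u0, xx, ρ_zero_left, ph_one, h.one, one_mul]
  by_cases e : ∃ a : F, v = a • u
  · obtain ⟨a, rfl⟩ := e
    rw [xx_self, h.one, one_mul]
  · exact h.sq _ ⟨u, v, ⟨hu, hv, h1, u0, not_exists.1 e⟩, rfl⟩

theorem comm0 {u v w : V} (hu : Q u = 0) (hv : Q v = 0) (hw : Q w = 0) (h1 : polar Q u v = 0) (h2 : polar Q u w = 0)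
    (h3 : polar Q v w = 0) : Commute (η (xx φ u v)) (η (xx φ u w)) := by
  rw [Commute, SemiconjBy, ← h.add u v w hu hv hw h1 h2 h3, ← h.add u w v hu hw hv h2 h1 (by rwa [polar_comm]),
    add_comm]

theorem eqv' {u v : V} (r : RP Q u v) {γ : SI Q} (hγ : γ ∈ Om Q) :
    ph φ γ * η (xx φ u v) * (ph φ γ)⁻¹ = η (xx φ (γ • u) (γ • v)) := by
  rw [h.eqv _ (ph_mem γ) _ ⟨u, v, r, rfl⟩, conj_xx hγ]

theorem xcomm {u v : V} (r : RP Q u v) (m : V) : Commute (xx φ u m) (η (xx φ u v)) := by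
  have := h.eqv _ (xx_mem u m) _ ⟨u, v, r, rfl⟩
  rwa [(xx_comm u m v).eq, mul_inv_cancel_right, mul_inv_eq_iff_eq_mul] at this

theorem kap {u v w : V} (r : RP Q u v) (r' : RP Q u w) : ∃ m, polar Q u m = 0 ∧
    η (xx φ u v) * η (xx φ u w) * (η (xx φ u v) * η (xx φ u w)) = xx φ u m := by
  have c1 := h.xcomm r
  have c2 := h.xcomm r'
  have s1 := h.sq _ ⟨u, v, r, rfl⟩
  have s2 := h.sq _ ⟨u, w, r', rfl⟩
  have m1 := h.mv _ ⟨u, v, r, rfl⟩
  have m2 := h.mv _ ⟨u, w, r', rfl⟩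
  have co := h.co _ ⟨u, v, r, rfl⟩
  generalize η (xx φ u v) = g at *
  generalize η (xx φ u w) = g' at *
  have m3 : g * g' * t * (g * g')⁻¹ = t * xx φ u (v + w) := by
    rw [show g * g' * t * (g * g')⁻¹ = g * (g' * t * g'⁻¹) * g⁻¹ by group, m2,
      show g * (t * xx φ u w) * g⁻¹ = g * t * g⁻¹ * (g * xx φ u w * g⁻¹) by group, m1, ← (c1 w).eq,
      mul_inv_cancel_right, mul_assoc, xx_mul r.qu r.uv r'.uv]
  have c3 : ∀ m, Commute (xx φ u m) (g * g') := fun m => (c1 m).mul_right (c2 m)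
  have ct : Commute (g * g' * (g * g')) t := by
    rw [Commute, SemiconjBy, ← mul_inv_eq_iff_eq_mul,
      show g * g' * (g * g') * t * (g * g' * (g * g'))⁻¹ = g * g' * (g * g' * t * (g * g')⁻¹) * (g * g')⁻¹ by group, m3,
      show g * g' * (t * xx φ u (v + w)) * (g * g')⁻¹ =
        g * g' * t * (g * g')⁻¹ * (g * g' * xx φ u (v + w) * (g * g')⁻¹) by group, m3, ← (c3 _).eq,
      mul_inv_cancel_right, mul_assoc, h.xx_sq, mul_one]
  obtain ⟨m, hm, z, hz, e⟩ := h.toMod.cA' r.qu r.u0 (h.cN ct) (mem_centralizer_iff.2 fun x hx => by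
    obtain ⟨γ, hγ, -, rfl⟩ := mem_im.1 hx
    obtain ⟨m, -, rfl⟩ := (mem_A r.qu).1 hγ
    exact ((c3 m).mul_right (c3 m)).eq)
  refine ⟨m, hm, ?_⟩
  have zt : Commute z t := by
    have := ((h.com (xx_mem u m)).inv_left).mul_left ct
    rwa [e, inv_mul_cancel_left] at this
  have xz : Commute (xx φ u m) z := hz _ (xx_mem u m)
  have gi : g⁻¹ = g := inv_eq_of_mul_eq_one_right s1
  have gi' : g'⁻¹ = g' := inv_eq_of_mul_eq_one_right s2
  have inv : g * z * g⁻¹ = z⁻¹ := by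
    have e1 : g * (g * g' * (g * g')) * g⁻¹ = (g * g' * (g * g'))⁻¹ := by
      simp only [mul_inv_rev, gi, gi', ← mul_assoc, s1, one_mul]
    rw [e, mul_inv_rev, h.xx_inv, xz.inv_right.symm.eq, ← mul_assoc, ← (c1 m).eq, mul_assoc, mul_assoc,
      mul_right_inj, ← mul_assoc] at e1
    exact e1
  obtain ⟨o, ho, ot, od, rfl | rfl⟩ := h.two'.dec hz zt.eq
  · rw [co z ho ot od, mul_inv_cancel_right, eq_inv_iff_mul_eq_one, ← pow_two] at inv
    have := Nat.Coprime.eq_one_of_dvd (Nat.coprime_two_right.2 od) (orderOf_dvd_of_pow_eq_one inv)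
    rw [e, orderOf_eq_one_iff.1 this, mul_one]
  · exfalso
    rw [show g * (t * o) * g⁻¹ = g * t * g⁻¹ * (g * o * g⁻¹) by group, m1, co o ho ot od, mul_inv_cancel_right] at inv
    refine h.toMod.xx_ne r (h.toMod.eq_one' (xx_mem u v) ?_)
    rw [show xx φ u v = t⁻¹ * (t * o)⁻¹ * o⁻¹ by rw [← inv]; group]
    exact mul_mem (mul_mem (inv_mem h.tC) (inv_mem hz)) (inv_mem ho)

theorem kap' {u v w m x : V} (r : RP Q u v) (r' : RP Q u w) (hm : polar Q u m = 0)
    (e : η (xx φ u v) * η (xx φ u w) * (η (xx φ u v) * η (xx φ u w)) = xx φ u m)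
    (hx : x ∈ pp Q (Submodule.span F {u, v, w})) (qx : Q x = 0) :
    ∃ a : F, polar Q m w • x + polar Q m x • w = a • u := by
  obtain ⟨x1, x2, x3⟩ := h2_mem_pp3.1 hx
  have g1 : ρ Q x w • u = u := ρ_fix (by rwa [polar_comm]) r'.uv
  have g2 : ρ Q x w • w = w := ρ_fix (by rwa [polar_comm]) (h.pol_self w)
  have g3 : ρ Q x w • v = v + polar Q v w • x := ρ_left qx x3 (by rwa [polar_comm])
  have q1 : Q (polar Q v w • x) = 0 := by simp [QuadraticMap.map_smul, qx]
  have q2 : polar Q u (polar Q v w • x) = 0 := by simp [polar_smul_right, polar_comm Q u x, x1]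
  have q3 : polar Q v (polar Q v w • x) = 0 := by simp [polar_smul_right, polar_comm Q v x, x2]
  have q4 : polar Q w (polar Q v w • x) = 0 := by simp [polar_smul_right, polar_comm Q w x, x3]
  have e1 := h.eqv' r (ρ_mem Q x w)
  have e2 := h.eqv' r' (ρ_mem Q x w)
  rw [g1, g3, h.add u v _ r.qu r.qv q1 r.uv q2 q3] at e1
  rw [g1, g2] at e2
  have c1 := h.comm0 r.qu r.qv q1 r.uv q2 q3
  have c2 := h.comm0 r.qu r'.qv q1 r'.uv q2 q4
  have s := h.sq' r.qu q1 q2
  have e3 := conj_xx (φ := φ) (ρ_mem Q x w) u m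
  rw [g1] at e3
  generalize η (xx φ u v) = g at *
  generalize η (xx φ u w) = g' at *
  generalize η (xx φ u (polar Q v w • x)) = j at *
  generalize ph φ (ρ Q x w) = l at *
  have e4 : xx φ u m = xx φ u (ρ Q x w • m) := by
    rw [← e3, ← e, show l * (g * g' * (g * g')) * l⁻¹ =
      l * g * l⁻¹ * (l * g' * l⁻¹) * (l * g * l⁻¹ * (l * g' * l⁻¹)) by group, e1, e2, mul_assoc g j, ← c2.eq,
      ← mul_assoc g g', mul_assoc (g * g') j, ← mul_assoc j, ← (c1.mul_left c2).eq, mul_assoc (g * g') j, s, mul_one]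
  obtain ⟨a, ha⟩ := h.ρ_inj r.qu r.u0 hm (by rw [← g1, lin_pol (σ_ρ x w), hm])
    (ph_inj h.inj (ρ_mem Q _ _) (ρ_mem Q _ _) e4)
  rw [h.ρ_smul qx x3, r'.qv, zero_mul, zero_smul, add_zero, add_assoc, add_right_inj] at ha
  exact ⟨a, ha⟩

theorem kap2 {u v w m : V} (r : RP Q u v) (r' : RP Q u w) (h3 : polar Q v w ≠ 0) (hm : polar Q u m = 0)
    (e : η (xx φ u v) * η (xx φ u w) * (η (xx φ u v) * η (xx φ u w)) = xx φ u m) :
    polar Q m w = 0 ∧ m ∈ Submodule.span F {u, v, w} := by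
  have key : ∀ x ∈ pp Q (Submodule.span F {u, v, w}), Q x = 0 →
      polar Q m x = 0 ∧ ∃ a : F, polar Q m w • x = a • u := fun x hx qx => by
    obtain ⟨a, ha⟩ := h.kap' r r' hm e hx qx
    have := congrArg (fun z => polar Q z v) ha
    simp only [polar_add_left, polar_smul_left, (h2_mem_pp3.1 hx).2.1, r.uv, smul_eq_mul, mul_zero, zero_add,
      polar_comm Q w v, mul_eq_zero, h3, or_false] at this
    rw [this, zero_smul, add_zero] at ha
    exact ⟨this, a, ha⟩
  constructor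
  · obtain ⟨x, hx, hx', qx⟩ := exs (Q := Q) (A := Submodule.span F {u}) (C := pp Q (Submodule.span F {u, v, w}))
      (Submodule.span_le.2 (by simp [h2_mem_pp3, h.pol_self, r.uv, r'.uv])) (by
        have := h.finrank_pp (Submodule.span F {u, v, w})
        have := h2_finrank_span1 (F := F) u
        have := h2_finrank_span3 (F := F) u v w
        have := h.four
        omega)
    obtain ⟨-, a, ha⟩ := key x hx qx
    by_contra h0
    refine hx' (Submodule.mem_span_singleton.2 ⟨(polar Q m w)⁻¹ * a, ?_⟩)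
    rw [mul_smul, ← ha, inv_smul_smul₀ h0]
  · rw [← h.pp_pp (Submodule.span F {u, v, w})]
    exact h.h2_sing3 r.uv r'.uv h3 (pp Q (Submodule.span F {m})).toAddSubgroup (fun x hx qx => by
      simpa [mem_pp_span, polar_comm Q x m] using (key x hx qx).1) |> fun H x hx => by
        simpa [mem_pp_span, polar_comm Q x m] using H x hx

theorem comm {u v w : V} (hu : Q u = 0) (hv : Q v = 0) (hw : Q w = 0) (h1 : polar Q u v = 0) (h2 : polar Q u w = 0) :
    Commute (η (xx φ u v)) (η (xx φ u w)) := by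
  by_cases h3 : polar Q v w = 0
  · exact h.comm0 hu hv hw h1 h2 h3
  by_cases u0 : u = 0
  · rw [u0, xx, ρ_zero_left, ph_one, h.one]; exact Commute.one_left _
  have r : RP Q u v := ⟨hu, hv, h1, u0, fun a e => h3 (by rw [e, polar_smul_left, h2, smul_zero])⟩
  have r' : RP Q u w := ⟨hu, hw, h2, u0, fun a e => h3 (by rw [e, polar_smul_right, polar_comm, h1, smul_zero])⟩
  obtain ⟨m, hm, e⟩ := h.kap r r'
  have g1 := inv_eq_of_mul_eq_one_right (h.sq' hu hv h1)
  have g2 := inv_eq_of_mul_eq_one_right (h.sq' hu hw h2)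
  have e' := congrArg (·⁻¹) e
  simp only [mul_inv_rev, g1, g2, h.xx_inv] at e'
  obtain ⟨k1, k2⟩ := h.kap2 r r' h3 hm e
  have k3 := (h.kap2 r' r (by rwa [polar_comm]) hm e').1
  obtain ⟨a, b, d, rfl⟩ := h2_mem_span3 k2
  simp only [polar_add_left, polar_smul_left, h1, h2, h.pol_self, smul_eq_mul, mul_zero, zero_add, add_zero,
    polar_comm Q w v, mul_eq_zero, h3, or_false] at k1 k3
  rw [k1, k3, zero_smul, zero_smul, add_zero, add_zero, xx_self, mul_eq_one_iff_eq_inv, mul_inv_rev, g1, g2] at e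
  exact e

theorem exists_y : ∃ y : V → V → G,
    (∀ u v w, Q u = 0 → polar Q u v = 0 → polar Q u w = 0 → y u (v + w) = y u v * y u w) ∧
      ∀ u v, Q u = 0 → Q v = 0 → polar Q u v = 0 → y u v = η (xx φ u v) := by
  classical
  have key : ∀ u, ∃ y : V → G, Q u = 0 → (∀ v w, polar Q u v = 0 → polar Q u w = 0 → y (v + w) = y v * y w) ∧
      ∀ v, Q v = 0 → polar Q u v = 0 → y v = η (xx φ u v) := fun u => by
    by_cases hu : Q u = 0
    swap
    · exact ⟨1, fun h' => (hu h').elim⟩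
    let S : Set G := {g | ∃ v, (Q v = 0 ∧ polar Q u v = 0) ∧ g = η (xx φ u v)}
    letI : CommGroup (closure S) := closureCommGroupOfComm (by
      rintro _ ⟨v, hv, rfl⟩ _ ⟨w, hw, rfl⟩
      exact h.comm hu hv.1 hw.1 hv.2 hw.2)
    obtain ⟨y, h1, h2⟩ := h.toOS0.ext_add (A := closure S) u
      (fun v => if hv : Q v = 0 ∧ polar Q u v = 0 then ⟨_, subset_closure ⟨v, hv, rfl⟩⟩ else 1)
      fun v w qv qw k1 k2 k3 => by
        rw [dif_pos (And.intro qv k1), dif_pos (And.intro qw k2), dif_pos ⟨by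
          rw [h.h2_q_add, qv, qw, k3, add_zero, add_zero], by rw [polar_add_right, k1, k2, add_zero]⟩]
        exact Subtype.ext (h.add u v w hu qv qw k1 k2 k3)
    exact ⟨fun v => y v, fun _ => ⟨fun v w k1 k2 => congrArg Subtype.val (h1 v w k1 k2), fun v k1 k2 => by
      simp only [h2 v k1 k2, dif_pos (And.intro k1 k2)]⟩⟩
  choose y hy using key
  exact ⟨y, fun u v w hu => (hy u hu).1 v w, fun u v hu => (hy u hu).2 v⟩

end HR

end CfsgLib.SL8
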