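import Cfsg.Agent.Lib.SLD.Hat3
import Cfsg.Agent.Lib.SL8.Hat2

/-! The relations of the hats -/

set_option autoImplicit false
set_option linter.unusedSectionVars false

namespace CfsgLib.SL8

open CfsgLib.SLD Subgroup QuadraticMap CfsgLib.OrthE Module
open scoped commutatorElement Pointwise

universe u

variable {F V : Type} [Field F] [Finite F] [AddCommGroup V] [Module F V] [Finite V] {Q : QuadraticForm F V}
  {k : ℕ} {G : Type u} [Group G] [Finite G] {φ : Om Q →* G} {t : G} {η : G → G} {c : F}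

variable (Q k φ t η c) in
/-- the additive extension of the hats -/
structure HY (y : V → V → G) : Prop extends HR Q k φ t η c where
  yadd : ∀ u v w, Q u = 0 → polar Q u v = 0 → polar Q u w = 0 → y u (v + w) = y u v * y u w
  ys : ∀ u v, Q u = 0 → Q v = 0 → polar Q u v = 0 → y u v = η (xx φ u v)

namespace HY

variable {y : V → V → G} (h : HY Q k φ t η c y) {u u' v v' w : V} (hu : Q u = 0)
include h hu

theorem self (a : F) : y u (a • u) = 1 := by
  rw [h.ys _ _ hu (h3_q hu a) (h3_pol (h.pol_self u) a), xx_self, h.one]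

theorem zero : y u 0 = 1 := by simpa using h.self hu 0

theorem smul (a : F) : ∀ v, polar Q u v = 0 → y (a • u) v = y u (a • v) := by
  have p : ∀ {v}, polar Q u v = 0 → polar Q (a • u) v = 0 := fun e => by rw [polar_smul_left, e, smul_zero]
  refine h3_ind1 h.toOS0 u (fun v w hv hw e e' => ?_) fun v hv q => ?_
  · rw [h.yadd _ _ _ (h3_q hu a) (p hv) (p hw), e, e', smul_add, h.yadd _ _ _ hu (h3_pol hv a) (h3_pol hw a)]
  · rw [h.ys _ _ (h3_q hu a) q (p hv), h.ys _ _ hu (h3_q q a) (h3_pol hv a), xx, xx, ρ_smul_left a hu hv]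

theorem swap (hv : Q v = 0) (e : polar Q u v = 0) (s : F) : y v (s • u) = y u (s • v) := by
  rw [h.ys _ _ hu (h3_q hv s) (h3_pol e s), h.ys _ _ hv (h3_q hu s) (h3_pol (by rwa [polar_comm]) s),
    h.xx_swap hu hv e]

theorem eqv' {γ : SI Q} (hγ : γ ∈ Om Q) :
    ∀ v, polar Q u v = 0 → ph φ γ * y u v * (ph φ γ)⁻¹ = y (γ • u) (γ • v) := by
  refine h3_ind1 h.toOS0 u (fun v w hv hw e e' => ?_) fun v hv q => ?_
  · rw [smul_add, h.yadd _ _ _ hu hv hw, h.yadd _ _ _ (γ.map_eq_zero.2 hu) (γ.pol_eq_zero.2 hv) (γ.pol_eq_zero.2 hw),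
      ← e, ← e', conj_mul]
  · rw [h.ys _ _ hu q hv, h.ys _ _ (γ.map_eq_zero.2 hu) (γ.map_eq_zero.2 q) (γ.pol_eq_zero.2 hv), ← conj_xx hγ]
    rcases h3_rt (φ := φ) hu q hv with e | e
    · simp [e, h.one]
    · exact h.eqv _ (ph_mem γ) _ e

theorem comm (hv : polar Q u v = 0) (hw : polar Q u w = 0) : Commute (y u v) (y u w) := by
  rw [Commute, SemiconjBy, ← h.yadd u v w hu hv hw, ← h.yadd u w v hu hw hv, add_comm]

theorem xcomm (hv : polar Q u v = 0) (hw : polar Q u w = 0) : Commute (y u v) (xx φ u w) := by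
  have := h.eqv' hu (ρ_mem Q u w) v hv
  rw [ρ_fix_self, ρ_left hu hw (by rwa [polar_comm]), h.yadd _ _ _ hu hv (h3_pol (h.pol_self u) _), h.self hu, mul_one,
    mul_inv_eq_iff_eq_mul] at this
  exact this.symm

theorem inv (hv : polar Q u v = 0) : (y u v)⁻¹ = y u v :=
  inv_eq_of_mul_eq_one_right (by rw [← h.yadd u v v hu hv hv, h.addV, h.zero hu])

theorem mv' : ∀ v, polar Q u v = 0 → y u v * t * (y u v)⁻¹ = t * xx φ u v := by
  refine h3_ind1 h.toOS0 u (fun v w hv hw e e' => ?_) fun v hv q => ?_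
  · rw [h.yadd _ _ _ hu hv hw, ← xx_mul hu hv hw, ← mul_assoc t, ← e,
      show y u v * y u w * t * (y u v * y u w)⁻¹ = y u v * (y u w * t * (y u w)⁻¹) * (y u v)⁻¹ by group, e',
      mul_assoc _ (y u v)⁻¹, (h.xcomm hu hv hw).inv_left.eq]
    group
  · rw [h.ys _ _ hu q hv]
    rcases h3_rt (φ := φ) hu q hv with e | e
    · simp [e, h.one]
    · exact h.mv _ e

theorem co' : ∀ v, polar Q u v = 0 → HX.CO φ.range t (y u v) := by
  refine h3_ind1 h.toOS0 u (fun v w hv hw e e' => ?_) fun v hv q => ?_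
  · rw [h.yadd _ _ _ hu hv hw]
    exact e.mul e'
  · rw [h.ys _ _ hu q hv]
    rcases h3_rt (φ := φ) hu q hv with e | e
    · rw [e, h.one]
      exact .of_mem (one_mem _)
    · exact h.co _ e

variable (hu' : Q u' = 0) (uu : polar Q u u' = 0)
include hu' uu

theorem ζ_add (a b : F) : y u ((a + b) • u') * xx φ u ((c * (a + b)) • u') =
    y u (a • u') * xx φ u ((c * a) • u') * (y u (b • u') * xx φ u ((c * b) • u')) := by
  rw [add_smul, mul_add, add_smul, h.yadd _ _ _ hu (h3_pol uu a) (h3_pol uu b), ← xx_mul hu (h3_pol uu _) (h3_pol uu _),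
    mul_assoc, mul_assoc, ← mul_assoc (y u (b • u')), (h.xcomm hu (h3_pol uu b) (h3_pol uu _)).eq, mul_assoc]

theorem ζ_left (hv : polar Q u v = 0) (a : F) : Commute (y u v) (y u (a • u') * xx φ u ((c * a) • u')) :=
  (h.comm hu hv (h3_pol uu a)).mul_right (h.xcomm hu hv (h3_pol uu _))

theorem ζ_right (hv : polar Q u' v = 0) (a : F) : Commute (y u' v) (y u (a • u') * xx φ u ((c * a) • u')) := by
  rw [← h.swap hu hu' uu, ← h.xx_swap hu hu' uu]
  exact h.ζ_left hu' hu (by rwa [polar_comm]) hv a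

theorem yy_left (h1 : polar Q u v = 0) (h2 : polar Q u w = 0)
    (e : y u v * y u' v' * (y u v)⁻¹ = y u' v' * (y u (polar Q v v' • u') * xx φ u ((c * polar Q v v') • u')))
    (e' : y u w * y u' v' * (y u w)⁻¹ = y u' v' * (y u (polar Q w v' • u') * xx φ u ((c * polar Q w v') • u'))) :
    y u (v + w) * y u' v' * (y u (v + w))⁻¹ =
      y u' v' * (y u (polar Q (v + w) v' • u') * xx φ u ((c * polar Q (v + w) v') • u')) := by
  rw [polar_add_left, h.ζ_add hu hu' uu, h.yadd _ _ _ hu h1 h2, ← mul_assoc (y u' v'), ← e,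
    show y u v * y u w * y u' v' * (y u v * y u w)⁻¹ = y u v * (y u w * y u' v' * (y u w)⁻¹) * (y u v)⁻¹ by group, e',
    mul_assoc _ (y u v)⁻¹, (h.ζ_left hu hu' uu h1 _).inv_left.eq]
  simp only [mul_assoc]

theorem yy_right (h1 : polar Q u' v' = 0) (h2 : polar Q u' w = 0)
    (e : y u v * y u' v' * (y u v)⁻¹ = y u' v' * (y u (polar Q v v' • u') * xx φ u ((c * polar Q v v') • u')))
    (e' : y u v * y u' w * (y u v)⁻¹ = y u' w * (y u (polar Q v w • u') * xx φ u ((c * polar Q v w) • u'))) :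
    y u v * y u' (v' + w) * (y u v)⁻¹ =
      y u' (v' + w) * (y u (polar Q v (v' + w) • u') * xx φ u ((c * polar Q v (v' + w)) • u')) := by
  rw [polar_add_right, h.ζ_add hu hu' uu, h.yadd _ _ _ hu' h1 h2, ← conj_mul, e, e', mul_assoc (y u' v'),
    ← mul_assoc _ (y u' w), ← (h.ζ_right hu hu' uu h2 _).eq]
  simp only [mul_assoc]

theorem yy_zero (b : polar Q v v' = 0) (e : Commute (y u v) (y u' v')) :
    y u v * y u' v' * (y u v)⁻¹ = y u' v' * (y u (polar Q v v' • u') * xx φ u ((c * polar Q v v') • u')) := by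
  rw [b, mul_zero, zero_smul, h.zero hu, xx_zero, mul_one, mul_one, e.eq, mul_inv_cancel_right]

theorem yy_ne (r : RP Q u u') (hv : Q v = 0) (hv' : Q v' = 0) (h1 : v ∈ pp Q (ln F u u')) (h2 : v' ∈ pp Q (ln F u u'))
    (b : polar Q v v' ≠ 0) :
    y u v * y u' v' * (y u v)⁻¹ = y u' v' * (y u (polar Q v v' • u') * xx φ u ((c * polar Q v v') • u')) := by
  obtain ⟨e, f, fr, e0, e1, e2, f2⟩ := h.fr_a2 r hv (h3_q hv' (polar Q v v')⁻¹) h1 (Submodule.smul_mem _ _ h2)
    (by rw [polar_smul_right, smul_eq_mul, inv_mul_cancel₀ b])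
  have := h.yy e f (fr.mono (by have := h.four; omega)) (polar Q v v') 1
  rw [mem_pp_ln, polar_comm _ v, polar_comm _ v] at h1
  rw [mem_pp_ln, polar_comm _ v', polar_comm _ v'] at h2
  rw [e0, e1, e2, f2, one_smul, smul_inv_smul₀ b, mul_one, ← h.ys _ _ hu hv h1.1, ← h.ys _ _ hu' hv' h2.2,
    ← h.ys _ _ hu (h3_q hu' _) (h3_pol uu _)] at this
  rw [h.inv hu h1.1, this, mul_assoc]

theorem yy' : ∀ v, polar Q u v = 0 → polar Q u' v = 0 → ∀ v', polar Q u v' = 0 → polar Q u' v' = 0 →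
    y u v * y u' v' * (y u v)⁻¹ = y u' v' * (y u (polar Q v v' • u') * xx φ u ((c * polar Q v v') • u')) := by
  by_cases u0 : u = 0
  · have : ∀ v, y u v = 1 := fun v => by
      have := h.smul hu 0 v (by rw [u0, polar_zero_left])
      rwa [zero_smul, zero_smul, h.zero hu, ← u0] at this
    intro v _ _ v' _ _
    rw [this, this, xx, u0, ρ_zero_left, ph_one]
    group
  by_cases e : ∃ a : F, u' = a • u
  · obtain ⟨a, rfl⟩ := e
    intro v h1 _ v' h2 _
    rw [smul_smul, smul_smul, h.self hu, xx_self, h.smul hu a v' h2, (h.comm hu h1 (h3_pol h2 a)).eq]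
    group
  have r : RP Q u u' := ⟨hu, hu', uu, u0, not_exists.1 e⟩
  refine h3_ind h.toOS0 u u' (fun v w a _ b _ e e' v' a' b' => h.yy_left hu hu' uu a b (e v' a' b') (e' v' a' b'))
    fun v a b hv => h3_ind h.toOS0 u u' (fun v' w _ a' _ b' => h.yy_right hu hu' uu a' b') fun v' a' b' hv' => ?_
  have m : ∀ {x}, polar Q u x = 0 → polar Q u' x = 0 → x ∈ pp Q (ln F u u') := fun a b =>
    mem_pp_ln.2 ⟨by rwa [polar_comm], by rwa [polar_comm]⟩
  refine by_cases (fun β : polar Q v v' = 0 => ?_) (h.yy_ne hu hu' uu r hv hv' (m a b) (m a' b'))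
  have vu : polar Q v u = 0 := by rwa [polar_comm]
  have vu' : polar Q v u' = 0 := by rwa [polar_comm]
  by_cases hT : v' ∈ ln F u u' ⊔ Submodule.span F {v}
  · obtain ⟨x, hx, z, hz, rfl⟩ := Submodule.mem_sup.1 hT
    obtain ⟨s₁, s₂, rfl⟩ := mem_ln.1 hx
    obtain ⟨s₃, rfl⟩ := Submodule.mem_span_singleton.1 hz
    have p1 := h3_pol ((polar_comm _ _ _).trans uu) s₁
    have p2 := h3_pol (h.pol_self u') s₂
    refine h.yy_zero hu hu' uu β ?_
    rw [h.yadd _ _ _ hu' (by rw [polar_add_right, p1, p2, add_zero]) (h3_pol b s₃), h.yadd _ _ _ hu' p1 p2,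
      h.self hu', mul_one, h.swap hu hu' uu, h.swap hv hu' vu']
    refine (h.comm hu a (h3_pol uu _)).mul_right ?_
    rw [show y u v = y v u by simpa using h.swap hv hu vu 1]
    exact h.comm hv vu (h3_pol vu' _)
  obtain ⟨x, hx, hy⟩ := h.exists_partner hv' hT (by
    rw [pp_sup]
    exact ⟨m a' b', mem_pp_span.2 fun z hz => by rwa [Set.mem_singleton_iff.1 hz, polar_comm]⟩)
  rw [pp_sup] at hx
  have xv : polar Q v x = 0 := (polar_comm _ _ _).trans (mem_pp_span.1 hx.2 v rfl)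
  have xv' : polar Q x v' = 1 := (polar_comm _ _ _).trans hy.hef
  have m' := add_mem (m a b) hx.1
  have := h.yy_left hu hu' uu ((polar_comm _ _ _).trans (mem_pp_ln.1 m').1) ((polar_comm _ _ _).trans (mem_pp_ln.1 hx.1).1)
    (h.yy_ne hu hu' uu r (by rw [QuadraticMap.map_add Q, hv, hy.hf, xv, add_zero, add_zero]) hv' m' (m a' b')
      (by rw [polar_add_left, β, xv', zero_add]; exact one_ne_zero))
    (h.yy_ne hu hu' uu r hy.hf hv' hx.1 (m a' b') (by rw [xv']; exact one_ne_zero))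
  rwa [add_assoc, h.addV, add_zero] at this

end HY

theorem HR.hv (h : HR Q k φ t η c) : ∃ y, HV Q k φ t y c := by
  obtain ⟨y, h1, h2⟩ := h.exists_y
  have H : HY Q k φ t η c y := ⟨h, h1, h2⟩
  refine ⟨y, h.toSit, h.two', h1, fun u a hu => H.self hu a, fun u v a hu => H.smul hu a v,
    fun u v hu hv e => by simpa using (H.swap hu hv e 1).symm, fun γ hγ u v hu => H.eqv' hu hγ v,
    fun u v hu => H.mv' hu v, fun u v hu => H.co' hu v,
    fun u u' v v' hu hu' uu a b a' b' => (H.yy' hu hu' uu v a b v' a' b').trans (mul_assoc _ _ _).symm,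
    fun u v r l hl => ?_, fun u v g r a b e => h2 u v r.qu r.qv r.uv ▸ h.chr u v g r a b e⟩
  have := h.eqv l hl.1 _ ⟨u, v, r, rfl⟩
  rwa [mem_centralizer_singleton_iff.1 hl.2, mul_inv_cancel_right, mul_inv_eq_iff_eq_mul,
    ← h2 u v r.qu r.qv r.uv] at this

end CfsgLib.SL8
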