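import Cfsg.Agent.Lib.SLD.Prda
import Cfsg.Agent.Lib.SL8.Top
import Cfsg.Agent.Lib.SL8.Sml

/-! The product case: fusion -/

set_option autoImplicit false
set_option linter.unusedSectionVars false

namespace CfsgLib.SL8

open CfsgLib.SLD Subgroup QuadraticMap CfsgLib.OrthE Module UFP
open scoped commutatorElement Pointwise

universe u

variable {F V : Type} [Field F] [Finite F] [AddCommGroup V] [Module F V] [Finite V] {Q : QuadraticForm F V}
  {k : ℕ} {G : Type u} [Group G] [Finite G] {φ : Om Q →* G} {t : G} {y : V → V → G} {c : F} {φ₁ φ₂ : Om Q →* G} {Gs : Subgroup G}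

/-- an involution acts linearly or semilinearly -/
theorem Mod.pa_side (h : Mod Q k φ) {s : G} (hs : s ∈ normalizer (φ.range : Set G)) (s2 : s * s = 1) :
    (∃ D ≤ φ.range ⊓ centralizer {s}, (∀ d ∈ D, d * d = 1) ∧
      Nat.card F ^ (k * (k - 1)) ≤ Nat.card D ^ 2) ∨
    s ∉ φ.range ⊔ centralizer (φ.range : Set G) ∧ 4 ≤ Nat.card F ∧
      IsSimpleGroup (φ.range ⊓ centralizer {s} : Subgroup G) ∧
      φ.range ⊓ centralizer {s} ≤ ⁅φ.range ⊓ centralizer {s}, φ.range ⊓ centralizer {s}⁆ ∧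
      ∃ X ≤ φ.range ⊓ centralizer {s}, IsPGroup 2 X ∧ Nat.card X ^ 2 = Nat.card F ^ (k * (k - 1)) := by
  obtain ⟨φ', e, f, h', er, -, ha⟩ := h.remod (pgroup_zpowers_of_sq s2) (zpowers_le.2 hs)
  obtain ⟨γ, hγ, -⟩ := ha s (mem_zpowers s)
  rw [← er]
  by_cases hσ : γ.σ = 1
  · exact .inl (h'.lin_big hγ s2 hσ)
  · refine .inr ⟨fun m => hσ ?_, h'.semi_big hγ s2 hσ⟩
    obtain ⟨γ', h1, h2⟩ := h'.mem_sup_iff.1 m
    rw [h'.ac_uniq hγ h2]
    exact σ_Om h1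

namespace DblP

variable (h : DblP φ k t y c φ₁ φ₂)
include h

theorem mod₁ : Mod Q k φ₁ := ⟨h.toOS, h.inj₁⟩

theorem mod₂ : Mod Q k φ₂ := ⟨h.toOS, h.inj₂⟩

theorem symm : DblP φ k t y c φ₂ φ₁ :=
  ⟨h.toHV, h.inj₂, h.inj₁, fun a b => (h.c12 b a).symm, fun a => by rw [h.ext, (h.c12 a a).eq],
    fun a => by rw [← h.tt, pa_self h.t2], by rw [sup_comm, h.eqG]⟩

theorem cm {a b : G} (ha : a ∈ φ₁.range) (hb : b ∈ φ₂.range) : a * b = b * a := by
  obtain ⟨a, rfl⟩ := ha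
  obtain ⟨b, rfl⟩ := hb
  exact h.c12 a b

theorem pa_c12 : φ₂.range ≤ centralizer (φ₁.range : Set G) := fun _ hb => mem_cent.2 fun _ ha => h.cm ha hb

theorem le1 : φ₁.range ≤ G0 φ y := h.eqG ▸ le_sup_left

theorem L1_le : φ₁.range ≤ normalizer (G0 φ y : Set G) := h.le1.trans le_normalizer

theorem norm1 : G0 φ y ≤ normalizer (φ₁.range : Set G) :=
  h.eqG ▸ sup_le le_normalizer (h.pa_c12.trans (centralizer_le_normalizer _))

theorem ne : φ₁.range ≠ φ₂.range := fun e => h.mod₁.not_cent (e.le.trans h.pa_c12)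

theorem mem_W {a : G} (h1 : a ∈ centralizer (φ₁.range : Set G)) (h2 : a ∈ centralizer (φ₂.range : Set G)) :
    a ∈ centralizer (G0 φ y : Set G) := by
  rw [← h.eqG]
  exact le_centralizer_iff.1 (sup_le (le_centralizer_iff.1 (zpowers_le.2 h1))
    (le_centralizer_iff.1 (zpowers_le.2 h2))) (mem_zpowers a)

theorem conj_t : MulAut.conj t • φ₁.range = φ₂.range := by
  rw [← L_cj]
  exact congrArg MonoidHom.range (MonoidHom.ext h.tt)

theorem t_not_norm : t ∉ normalizer (φ₁.range : Set G) := fun e =>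
  h.ne ((Coprime.mem_normalizer_iff_conj_smul_eq.1 e).symm.trans h.conj_t)

theorem pa_perm' {g : G} (hg : g ∈ normalizer (G0 φ y : Set G)) :
    MulAut.conj g • φ₁.range = φ₁.range ∨ MulAut.conj g • φ₁.range = φ₂.range := by
  have h1 : MulAut.conj g • φ₁.range ≤ G0 φ y :=
    Coprime.conj_smul_le_iff.2 fun x hx => conj_mem hg (h.le1 hx)
  have h2 : G0 φ y ≤ normalizer ((MulAut.conj g • φ₁.range : Subgroup G) : Set G) := fun x hx => by
    have := norm_conj (g := g) (h.norm1 (conj_mem' hg hx))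
    rwa [show g * (g⁻¹ * x * g) * g⁻¹ = x by group] at this
  have hc : Nat.card φ₂.range = Nat.card φ₁.range := by rw [← h.conj_t, Coprime.card_conj_smul]
  rcases h.mod₁.le_or_cent (h.le1.trans h2) (h1.trans h.norm1) with h3 | h3
  · exact .inl (Core.eq_of_le_of_card_le h3 (Coprime.card_conj_smul g _).le).symm
  rcases h.mod₂.le_or_cent (h.symm.le1.trans h2) (h1.trans h.symm.norm1) with h4 | h4
  · exact .inr (Core.eq_of_le_of_card_le h4 ((Coprime.card_conj_smul g _).trans hc.symm).le).symm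
  · refine absurd ?_ (h.mod₁.cj g).not_cent
    rw [L_cj]
    exact fun x hx => centralizer_le h1 (h.mem_W (h3 hx) (h4 hx))

theorem norm2 {g : G} (hg : g ∈ normalizer (G0 φ y : Set G)) (h1 : g ∈ normalizer (φ₁.range : Set G)) :
    g ∈ normalizer (φ₂.range : Set G) := by
  rcases h.symm.pa_perm' hg with h2 | h2
  · exact Coprime.mem_normalizer_iff_conj_smul_eq.2 h2
  · exact absurd (MulAction.injective _ ((Coprime.mem_normalizer_iff_conj_smul_eq.1 h1).trans h2.symm)) h.ne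

theorem pa_perm {x : G} (hx : x ∈ normalizer (G0 φ y : Set G)) :
    x ∈ normalizer (φ₁.range : Set G) ∨ x * t ∈ normalizer (φ₁.range : Set G) := by
  rcases h.symm.pa_perm' hx with h1 | h1
  · exact .inl (h.symm.norm2 hx (Coprime.mem_normalizer_iff_conj_smul_eq.2 h1))
  · exact .inr (Coprime.mem_normalizer_iff_conj_smul_eq.2 (by rw [map_mul, mul_smul, h.conj_t, h1]))

theorem swap' : UFP.Swap (normalizer (G0 φ y : Set G))
    (normalizer (G0 φ y : Set G) ⊓ normalizer (φ₁.range : Set G))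
    (normalizer (G0 φ y : Set G) ⊓ centralizer (φ₂.range : Set G))
    (normalizer (G0 φ y : Set G) ⊓ centralizer (φ₁.range : Set G)) := by
  have := UFP.swap_of h.t2 h.t_norm h.t_not_norm (fun _ hg => h.pa_perm hg) (by
    rw [h.conj_t]
    exact h.cent_odd.of_dvd_nat (card_dvd_of_le fun x hx => h.mem_W hx.2.2 hx.1.2))
  rwa [h.conj_t] at this

/-- the diagonal -/
theorem diag {a : G} (ha : a ∈ φ₁.range) : a * (t * a * t⁻¹) ∈ φ.range := by
  obtain ⟨a, rfl⟩ := ha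
  exact ⟨a, by rw [h.ext, h.tt]⟩

theorem pa_diag {s : G} (hs : MulAut.conj s • φ₁.range = φ₂.range) :
    ∃ ψ : φ₁.range →* G, ∀ x, ψ x = x * (s * x * s⁻¹) :=
  ⟨MonoidHom.mk' (fun x => x * (s * x * s⁻¹)) fun p q => by
    simp only [coe_mul]
    rw [mul_assoc (p : G) (s * p * s⁻¹), ← mul_assoc (s * p * s⁻¹),
      ← h.cm q.2 (hs.le (Coprime.conj_mem_conj_smul p.2))]
    group, fun _ => rfl⟩

theorem pa_conj {l : G} (hl : l ∈ φ.range) (l2 : l * l = 1) : ∃ p ∈ φ₁.range, l * t = p * t * p⁻¹ := by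
  obtain ⟨a, rfl⟩ := hl
  rw [← map_mul, map_eq_one_iff _ h.inj] at l2
  have h4 : φ₁ a * φ₁ a = 1 := by rw [← map_mul, l2, map_one]
  exact ⟨φ₁ a, ⟨a, rfl⟩, by rw [h.ext, ← h.tt, inv_eq_of_mul_eq_one_right h4]; group⟩

theorem pa_nat {g : G} (hg : MulAut.conj (g * t * g⁻¹) • φ₁.range = φ₂.range) {x : G} (hx : x ∈ φ₁.range) :
    g⁻¹ * x * g ∈ G0 φ y := by
  obtain ⟨s, hs⟩ : ∃ s, s = g * t * g⁻¹ := ⟨_, rfl⟩
  have H := h.toSit.cj g
  rw [← hs] at hg H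
  have h2 : ∀ p ∈ φ₁.range, s * p * s⁻¹ ∈ φ₂.range := fun p hp => hg ▸ Coprime.conj_mem_conj_smul hp
  obtain ⟨ψ, hψ⟩ := h.pa_diag hg
  have hD : ∀ p ∈ φ₁.range, g⁻¹ * (p * (s * p * s⁻¹)) * g ∈ φ.range := fun p hp => by
    refine mem_L_cj.1 (H.pf_le (K := ψ.range) ?_ ?_ ⟨⟨p, hp⟩, hψ _⟩)
    · rintro _ ⟨q, rfl⟩
      rw [hψ, mem_cent1, ← mul_inv_eq_iff_eq_mul, show s * (q * (s * q * s⁻¹)) * s⁻¹ =
        s * q * s⁻¹ * (s * (s * q * s⁻¹) * s⁻¹) by group, pa_self H.t2, h.cm q.2 (h2 q q.2)]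
    · have : (⊤ : Subgroup φ₁.range) ≤ ⁅⊤, ⊤⁆ := (map_le_map_iff_of_injective φ₁.range.subtype_injective).1 (by
        rw [map_commutator, ← MonoidHom.range_eq_map, range_subtype]; exact h.mod₁.perf')
      rw [ψ.range_eq_map, ← map_commutator]
      exact map_mono this
  have h3 : ∀ z ∈ φ₁.range, z * z = 1 → z ∈ MulAut.conj g • normalizer (G0 φ y : Set G) := fun z hz z2 => by
    obtain ⟨p, hp, e⟩ := h.pa_conj (hD z hz) (by
      rw [show g⁻¹ * (z * (s * z * s⁻¹)) * g * (g⁻¹ * (z * (s * z * s⁻¹)) * g) =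
        g⁻¹ * (z * (s * z * s⁻¹ * z) * (s * z * s⁻¹)) * g by group, ← h.cm hz (h2 z hz),
        show z * (z * (s * z * s⁻¹)) * (s * z * s⁻¹) = z * z * (s * (z * z) * s⁻¹) by group, z2]
      group)
    refine Coprime.mem_conj_smul_iff.2 ((Subgroup.mul_mem_cancel_left _ (inv_mem (h.L1_le hp))).1 (h.cent_le ?_))
    symm
    calc _ = p⁻¹ * (p * t * p⁻¹) * (g⁻¹ * z * g) := by group
      _ = p⁻¹ * (g⁻¹ * (z * s * (z * s⁻¹ * (g * t * g⁻¹) * z)) * g) := by rw [← e]; group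
      _ = _ := by rw [← hs, inv_mul_cancel_right, z2, hs]; group
  have h4 : ⁅φ₁.range, φ₁.range⁆ ≤ MulAut.conj g • G0 φ y := commutator_le.2 fun z hz p hp => by
    have h5 : _ ∈ G0 φ y := mem_sup_left (hD p hp)
    have h6 := mul_mem (conj_mem (Coprime.mem_conj_smul_iff.1 (L_le
      (fun u v _ _ => h3 _ (xx_mem u v) (h.xx_sq u v)) hz)) h5) (inv_mem h5)
    refine Coprime.mem_conj_smul_iff.2 ?_
    rwa [show g⁻¹ * z * g * (g⁻¹ * (p * (s * p * s⁻¹)) * g) * (g⁻¹ * z * g)⁻¹ *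
      (g⁻¹ * (p * (s * p * s⁻¹)) * g)⁻¹ = g⁻¹ * (z * p * (s * p * s⁻¹ * z⁻¹) * (s * p * s⁻¹)⁻¹ * p⁻¹) * g
      by group, ← h.cm (inv_mem hz) (h2 p hp), show z * p * (z⁻¹ * (s * p * s⁻¹)) * (s * p * s⁻¹)⁻¹ *
      p⁻¹ = ⁅z, p⁆ by rw [commutatorElement_def]; group] at h6
  exact Coprime.mem_conj_smul_iff.1 (h4 (h.mod₁.perf' hx))

theorem native {x : G} (hx : x * t * x⁻¹ ∈ normalizer (G0 φ y : Set G))
    (h1 : x * t * x⁻¹ ∉ normalizer (φ₁.range : Set G)) : x ∈ normalizer (G0 φ y : Set G) := by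
  have h2 := (h.pa_perm' hx).resolve_left fun e => h1 (Coprime.mem_normalizer_iff_conj_smul_eq.2 e)
  have h3 : MulAut.conj (x * t * x⁻¹) • φ₂.range = φ₁.range := by rw [← h2, conj_conj (h.toSit.cj x).t2]
  refine inv_mem_iff.1 (mem_normalizer_fintype fun z hz => ?_)
  rw [SetLike.mem_coe, ← h.eqG] at hz
  obtain ⟨p, hp, q, hq, rfl⟩ := SLE.mem_sup_comm (fun _ hp _ hq => h.cm hp hq) hz
  rw [show x⁻¹ * (p * q) * x⁻¹⁻¹ = x⁻¹ * p * x * (x⁻¹ * q * x) by group]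
  exact mul_mem (h.pa_nat h2 hp) (h.symm.pa_nat h3 hq)

theorem not_mem (hG : SLE.Glob Gs t) : t ∉ Gs := by
  have w := h.swap'
  obtain ⟨B, _, _, l, -, hl⟩ := SLE.exists_two_hom w.le fun p hp q hq => by
    by_cases e : q ∈ normalizer (G0 φ y : Set G) ⊓ normalizer (φ₁.range : Set G)
    · exact mul_mem (w.conj hp e) (inv_mem e)
    · exact w.idx _ (mul_mem (mul_mem hp hq) (inv_mem hp)) _ (inv_mem hq) (w.conj_not hp e)
        fun e' => e (inv_mem_iff.1 e')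
  refine hG.not_mem (not_mem_commutator h.t2 h.t_norm l (fun e => ?_) fun x hx e =>
    h.native hx fun e' => e ((hl _).2 ⟨1, odd_one, by rw [pow_one]; exact ⟨hx, e'⟩⟩))
  obtain ⟨m, hm, h1⟩ := (hl _).1 e
  exact h.t_not_norm (SLE.mem_of_odd_pow (pgroup_zpowers_of_sq h.t2) hm h1).2

theorem pa_one {a : G} (h1 : a ∈ φ₁.range) (h2 : a ∈ φ₂.range) : a = 1 :=
  h.mod₁.eq_one' h1 (h.pa_c12 h2)

theorem pa_mix {ψ : Om Q →* G} {s : G} (H : Sit Q k ψ s) {D X : Subgroup G}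
    (d1 : D ≤ φ₁.range ⊓ centralizer {s}) (d2 : ∀ d ∈ D, d * d = 1)
    (d3 : Nat.card F ^ (k * (k - 1)) ≤ Nat.card D ^ 2)
    (n : s ∉ φ₂.range ⊔ centralizer (φ₂.range : Set G)) (hq : 4 ≤ Nat.card F)
    (pf : φ₂.range ⊓ centralizer {s} ≤ ⁅φ₂.range ⊓ centralizer {s}, φ₂.range ⊓ centralizer {s}⁆)
    (x1 : X ≤ φ₂.range ⊓ centralizer {s}) (x2 : IsPGroup 2 X)
    (x3 : Nat.card X ^ 2 = Nat.card F ^ (k * (k - 1))) : False :=
  H.no_mix hq d2 (d1.trans inf_le_right) (x1.trans (H.pf_le inf_le_right pf)) x2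
    (fun _ hd _ hx => h.cm (d1 hd).1 (x1 hx).1)
    (fun m => n (sup_le (((d1.trans inf_le_left).trans h.symm.pa_c12).trans le_sup_right)
      ((x1.trans inf_le_left).trans le_sup_left) m))
    (eq_bot_iff.2 fun _ ha => h.pa_one (d1 ha.1).1 (x1 ha.2).1) d3 x3.ge

/-- no conjugate of `t` normalises both factors -/
theorem no_fix {g : G} (h1 : g * t * g⁻¹ ∈ normalizer (φ₁.range : Set G))
    (h2 : g * t * g⁻¹ ∈ normalizer (φ₂.range : Set G)) : False := by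
  have H := h.toSit.cj g
  generalize g * t * g⁻¹ = s at h1 h2 H
  have h4 := h.four
  have hN : 1 < Nat.card F ^ (k * (k - 1)) :=
    Nat.one_lt_pow (Nat.mul_ne_zero (by omega) (by omega)) Finite.one_lt_card
  rcases h.mod₁.pa_side h1 H.t2 with ⟨D, d1, d2, d3⟩ | ⟨n, hq, si, pf, X, x1, x2, x3⟩ <;>
    rcases h.mod₂.pa_side h2 H.t2 with ⟨D', d1', d2', d3'⟩ | ⟨n', hq', -, pf', X', x1', x2', x3'⟩
  · have c : ∀ a ∈ D, ∀ b ∈ D', a * b = b * a := fun _ ha _ hb => h.cm (d1 ha).1 (d1' hb).1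
    have e1 := H.small' (D := D ⊔ D') (fun w hw => by
      obtain ⟨a, ha, b, hb, rfl⟩ := SLE.mem_sup_comm c hw
      rw [mul_assoc, ← mul_assoc b, ← c a ha b hb, mul_assoc, d2' b hb, mul_one, d2 a ha])
      (sup_le (d1.trans inf_le_right) (d1'.trans inf_le_right))
    have e2 := SLE.card_sup_comm c fun a ha hb => h.pa_one (d1 ha).1 (d1' hb).1
    have e3 : Nat.card F ^ (k * (k - 1)) ≤ Nat.card D * Nat.card D' :=
      Nat.mul_self_le_mul_self_iff.1 ((Nat.mul_le_mul d3 d3').trans_eq (by ring))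
    omega
  · exact h.pa_mix H d1 d2 d3 n' hq' pf' x1' x2' x3'
  · exact h.symm.pa_mix H d1' d2' d3' n hq pf x1 x2 x3
  · refine H.no_prod si pf (H.pf_le inf_le_right pf) (H.pf_le inf_le_right pf')
      (fun _ ha _ hb => h.cm ha.1 hb.1) x1 x1' x2 x2' (fun e => ?_) ?_
    · rw [e, card_bot, one_pow] at x3'
      omega
    · rw [Nat.pow_left_injective two_ne_zero (x3'.trans x3.symm), ← x3, pow_two]

theorem isU : UFP.U (normalizer (G0 φ y : Set G)) t :=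
  ⟨h.t2, h.t_norm, fun _ hg => h.native hg fun h1 => h.no_fix h1 (h.norm2 hg h1)⟩

end DblP

end CfsgLib.SL8
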