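import Cfsg.Agent.Lib.Parr.Gens

/-!
# The model: `V0 = A ⊗ B ⊗ C` (three planes over `F₂`), the groups `S₃³ < S₃ ≀ S₃`, the space `V1 = V0 ⊥ H`
-/

set_option autoImplicit false
set_option Elab.async false
set_option maxRecDepth 100000

namespace CfsgLib.SL8

open CfsgLib.Parr CfsgLib.Golay CfsgLib.ExtraTwo Subgroup

/-- the tensor basis, `bv (4 i + 2 j + k) = a_i ⊗ b_j ⊗ c_k` -/
def bv (i : ℕ) : V0 := vc ([5, 85, 181, 235, 234, 17, 129, 157].getD i 0)

def lmC (i : ℕ) : ℕ := [0x3010c04003010c04, 0x351aca4f63b16cb4, 0x3f15cf45f351fc54, 0x1d264b8de273789c,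
  0xc040301c0403010, 0x102080c20304080].getD i idM

theorem lmC_ok (i : ℕ) : qOK (lmC i) = true := by
  by_cases h : i < 6
  · exact (by decide +kernel : ∀ i < 6, qOK (lmC i) = true) i h
  · rw [lmC, List.getD_eq_default _ _ (by simpa using h)]; decide +kernel

/-- the six transvections of the three factors: `lm 0, lm 3` on `A`, `lm 1, lm 4` on `C`, `lm 2, lm 5` on `B` -/
noncomputable def lm (i : ℕ) : P0 := pm (lmC i) (lmC_ok i)

/-- exchange of `B` and `C` -/
noncomputable def sw1 : P0 := pm 0x1030c08008040201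

/-- exchange of `A` and `B` -/
noncomputable def sw2 : P0 := pm 0x251f854ff2a1f8a4

/-- the 27 elements of the normal subgroup `3³` -/
def yK (i : ℕ) : ℕ := [0x8040201008040201, 0x46cd1b36ec989372, 0xc68d3b26e49c9173, 0xd2b1d8b42f1a854f,
  0x2e1951f38e49ac58, 0xfca88947a1532917, 0x52f1f8a4271e874e, 0x68d44ac562d13f2a, 0x3a25b26145cfb864,
  0x54fcf3a2cf8a153f, 0x63d247ce1e39dcb8, 0x372eb46cd1b3c987, 0x1f3ac58f9c78e193, 0xa35261d3040ce291,
  0xbc68a45c98740302, 0x4bc6362d53f2f4ac, 0xc080261d1a353e29, 0x8b46103049c7ca85, 0xd4bcd3b2c78e173e,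
  0x251f5cf8f2a14fca, 0xf1a38f4a352f58f4, 0xcd8b1d3bb36264dc, 0x8d4b30208a454ec9, 0x40c02d1b39272a15,
  0x1937ce8974ec73e2, 0xa8546cd878e40103, 0xb163a2510c0872e1].getD i idM

/-- `uK (a + 2 b + 4 c) = lm 0 ^ a * lm 1 ^ b * lm 2 ^ c` -/
def uK (l : ℕ) : ℕ := [0x8040201008040201, 0x3010c04003010c04, 0x351aca4f63b16cb4, 0x854f2f1ad8b4d2b1,
  0x3f15cf45f351fc54, 0x8a452a15a854a251, 0x8f4a251f72e178e4, 0x3a1fc54a9ce493e1].getD l idM

/-- `1, sw1, sw2, sw1 sw2, sw2 sw1, sw1 sw2 sw1` -/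
def sK (j : ℕ) : ℕ := [0x8040201008040201, 0x1030c08008040201, 0x251f854ff2a1f8a4, 0xc58f153f62d168d4,
  0x4fca3a25f2a1f8a4, 0x3f2a4ac562d168d4].getD j idM

/-- the 1296 elements of `Kt` -/
noncomputable def kC (i l j : ℕ) : ℕ := mp (mp (yK i) (uK l)) (sK j)

/-- the 27 pure tensors -/
def Pu (v : V0) : Prop := tb 0x8008e8008000000402108002000100200400800402100140014000010024020 v.n = true

/-- zero, the pure tensors and the 12 nonsingular vectors which are not sums of two pure tensors -/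
def Om40 (v : V0) : Prop := tb 0x8008f8808000800402108002014104210420800402120142014080010424021 v.n = true

instance : DecidablePred Pu := fun _ => inferInstanceAs (Decidable (_ = true))

instance : DecidablePred Om40 := fun _ => inferInstanceAs (Decidable (_ = true))

/-- bases of the three subspaces `a ⊗ B ⊗ C` -/
def sA (c j : ℕ) : V0 := [bv j, bv (j + 4), bv j + bv (j + 4)].getD c 0

/-- `S₃ × S₃ × S₃` -/
def Yb : Subgroup P0 := closure (Set.range lm)

/-- `S₃ ≀ S₃` -/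
def Kt : Subgroup P0 where
  carrier := {g | g ∈ OK 0 ∧ ∀ v, Pu (g v) ↔ Pu v}
  mul_mem' {a b} ha hb := ⟨mul_mem ha.1 hb.1, fun v => (ha.2 _).trans (hb.2 v)⟩
  one_mem' := ⟨one_mem _, fun _ => Iff.rfl⟩
  inv_mem' {a} ha := ⟨inv_mem ha.1, fun v => by rw [← ha.2]; simp⟩

/-- the form of `V0` -/
def qf0 : QuadraticForm (ZMod 2) V0 where
  toFun := q0
  toFun_smul a v := by rcases zmod2_cases a with rfl | rfl <;> simp [q0_zero]
  exists_companion' := ⟨B0, q0_add⟩

theorem qf0_apply (v : V0) : qf0 v = q0 v := rfl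

theorem polar_qf0 (u v : V0) : QuadraticMap.polar qf0 u v = b0 u v := by
  rw [QuadraticMap.polar, qf0_apply, qf0_apply, qf0_apply, q0_add]; ring

/-- `(v, a, b) = v + a p + b t` -/
abbrev V1 : Type := V0 × ZMod 2 × ZMod 2

abbrev P1 : Type := Equiv.Perm V1

def q1 (x : V1) : ZMod 2 := q0 x.1 + x.2.1 * x.2.2

def b1 (x y : V1) : ZMod 2 := b0 x.1 y.1 + (x.2.1 * y.2.2 + x.2.2 * y.2.1)

theorem q1_add (x y : V1) : q1 (x + y) = q1 x + q1 y + b1 x y := by
  simp only [q1, b1, Prod.fst_add, Prod.snd_add, q0_add]; ring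

/-- the form of `V1` -/
def qf1 : QuadraticForm (ZMod 2) V1 where
  toFun := q1
  toFun_smul a v := by rcases zmod2_cases a with rfl | rfl <;> simp [q1, q0_zero]
  exists_companion' := ⟨LinearMap.mk₂ (ZMod 2) b1
    (fun x y z => by simp only [b1, Prod.fst_add, Prod.snd_add, b0_add_left]; ring)
    (fun c x y => by simp only [b1, Prod.smul_fst, Prod.smul_snd, b0_smul_left, smul_eq_mul]; ring)
    (fun x y z => by simp only [b1, Prod.fst_add, Prod.snd_add, b0_add_right]; ring)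
    (fun c x y => by simp only [b1, Prod.smul_fst, Prod.smul_snd, b0_smul_right, smul_eq_mul]; ring), q1_add⟩

theorem qf1_apply (x : V1) : qf1 x = q1 x := rfl

theorem polar_qf1 (x y : V1) : QuadraticMap.polar qf1 x y = b1 x y := by
  rw [QuadraticMap.polar, qf1_apply, qf1_apply, qf1_apply, q1_add]; ring

/-- the isometries of a form -/
def OI {W : Type} [AddCommGroup W] [Module (ZMod 2) W] (q : QuadraticForm (ZMod 2) W) :
    Subgroup (Equiv.Perm W) where
  carrier := {g | (∀ u v, g (u + v) = g u + g v) ∧ ∀ v, q (g v) = q v}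
  mul_mem' {a b} ha hb := ⟨fun u v => by simp only [Equiv.Perm.mul_apply, ha.1, hb.1],
    fun v => by simp only [Equiv.Perm.mul_apply, ha.2, hb.2]⟩
  one_mem' := ⟨fun _ _ => rfl, fun _ => rfl⟩
  inv_mem' {a} ha := ⟨fun u v => a.injective (by simp [ha.1]), fun v => by rw [← ha.2]; simp⟩

theorem OI_qf0 : OI qf0 = OK 0 := Subgroup.ext fun g =>
  and_congr Iff.rfl (forall_congr' fun v => by rw [qk_zero_left, qk_zero_left]; rfl)

/-- the image of `p` -/
def pb : V1 := (0, 1, 0)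

/-- the image of `t` -/
def tv1 : V1 := (0, 0, 1)

/-- the orbit of `tv1`, of length 40 -/
def Om1 (x : V1) : Prop := Om40 x.1 ∧ x.2.1 = q0 x.1 ∧ x.2.2 = 1

instance : DecidablePred Om1 := fun _ => inferInstanceAs (Decidable (_ ∧ _ ∧ _))

/-- the extension fixing `pb` and `tv1` -/
def lift : P0 →* P1 where
  toFun g := g.prodCongr (Equiv.refl _)
  map_one' := Equiv.ext fun _ => rfl
  map_mul' _ _ := Equiv.ext fun _ => rfl

theorem lift_apply (g : P0) (x : V1) : lift g x = (g x.1, x.2) := rfl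

noncomputable def a1f (x : V1) : V1 := (t0 x.1 + x.2.2 • bv 0, x.2.1 + b0 x.1 (bv 0), x.2.2)

theorem a1f_invol : Function.Involutive a1f := fun x =>
  (by decide +kernel : ∀ v : V0, ∀ a b : ZMod 2, a1f (a1f (v, a, b)) = (v, a, b)) x.1 x.2.1 x.2.2

/-- the action of the hat of the root with coordinate `bv 0` -/
noncomputable def A1 : P1 := a1f_invol.toPerm

theorem A1_apply (x : V1) : A1 x = a1f x := rfl

/-- `W(E₆)` -/
def G1 : Subgroup P1 where
  carrier := {g | g ∈ OI qf1 ∧ ∀ x, Om1 (g x) ↔ Om1 x}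
  mul_mem' {a b} ha hb := ⟨mul_mem ha.1 hb.1, fun v => (ha.2 _).trans (hb.2 v)⟩
  one_mem' := ⟨one_mem _, fun _ => Iff.rfl⟩
  inv_mem' {a} ha := ⟨inv_mem ha.1, fun v => by rw [← ha.2]; simp⟩

/-- the group generated by `A1` and `Yb` -/
def G2 : Subgroup P1 := closure ({A1} ∪ Set.range fun i => lift (lm i))

open _root_.Classical in
/-- the action on `pb ^ ⊥ / pb` -/
noncomputable def mu (g : P1) : P0 := if h : ∃ m : P0, ∀ v a, (g (v, a, 0)).1 = m v then h.choose else 1

end CfsgLib.SL8
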