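import Cfsg.Agent.Lib.SLD.Fld2
import Cfsg.Agent.Lib.SL8.Fld1

/-! The field case: the global step -/

set_option autoImplicit false
set_option linter.unusedSectionVars false

namespace CfsgLib.SL8

open CfsgLib.SLD Subgroup QuadraticMap CfsgLib.OrthE Module
open scoped commutatorElement Pointwise

universe u

variable {F V : Type} [Field F] [Finite F] [AddCommGroup V] [Module F V] [Finite V] {Q : QuadraticForm F V}
  {k : ℕ} {G : Type u} [Group G] [Finite G] {φ : Om Q →* G} {t : G} {y : V → V → G} {c : F}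
  {K V' : Type} [Field K] [Finite K] [AddCommGroup V'] [Module K V'] [Finite V'] {Q' : QuadraticForm K V'}
  {ψ : Om Q' →* G} {j : F →+* K} {ι : V →+ V'} {τ : SI Q'} {Gs : Subgroup G}

namespace DblF

variable (h : DblF φ k t y c ψ j ι τ)
include h

variable {e f : ℕ → V}

theorem chn (fr : Fr Q (k - 1) e f) : UFP.Chain t (im ψ (UF Q' (fun i => ι (e i)) (k - 1))) (2 * k * (k - 1))
    fun n => im ψ (Ch (fun i => ι (e i)) k n) := by
  have c := h.ds.chain h.mod'.toOS0 fr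
  have hO : ∀ i ≤ 2 * k * (k - 1), Ch (Q := Q') (fun i => ι (e i)) k i ≤ Om Q' := fun i hi =>
    (Ch_le _ hi).trans (UF_le_Om _ _)
  refine ⟨?_, congrArg (im ψ) c.top, fun i hi => im_mono (c.mono i hi),
    fun i hi => h.ac.norm_im fun x hx => UFP.conj_mem (c.tn i hi) hx, fun i hi u hu x hx => ?_,
    fun i hi x hx => ?_, fun i hi x hx hc => ?_⟩
  · rw [c.zero]; simp [im]
  · rw [mem_im] at hu
    obtain ⟨u, hu, u0, rfl⟩ := hu
    rw [mem_im] at hx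
    obtain ⟨x, hx, x0, rfl⟩ := hx
    exact (f2_comm h.mod'.inj (ac_ph u0) x0).2 (c.cen i hi u hu x hx)
  · rw [mem_im] at hx
    obtain ⟨x, hx, x0, rfl⟩ := hx
    rw [← ph_mul x0 x0]
    exact ph_mem_im (c.sq i hi x hx)
  · rw [mem_im] at hx
    obtain ⟨x, hx, x0, rfl⟩ := hx
    obtain ⟨z, hz, h1⟩ := c.free i hi x hx ((f2_comm h.mod'.inj h.ac x0).1 hc)
    have z0 := hO _ hi hz
    refine ⟨ph ψ z, ph_mem_im hz, ?_⟩
    rw [f2_eq h.ac z0, ← ph_mul x0 (mul_mem (Om_normal.conj_mem z z0 τ) (inv_mem z0))]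
    exact ph_mem_im h1

theorem f2_lin (fr : Fr Q (k - 1) e f) : ∀ i < 2 * k * (k - 1), ∀ n < i,
    ∀ w ∈ im ψ (UF Q' (fun i => ι (e i)) (k - 1)),
    (∀ x ∈ im ψ (Ch (fun i => ι (e i)) k (i + 1)), t * x * t⁻¹ * x⁻¹ ∈ im ψ (Ch (fun i => ι (e i)) k i) →
      w * x * w⁻¹ * x⁻¹ ∈ im ψ (Ch (fun i => ι (e i)) k n)) →
    ∀ x ∈ im ψ (Ch (fun i => ι (e i)) k (i + 1)), w * x * w⁻¹ * x⁻¹ ∈ im ψ (Ch (fun i => ι (e i)) k n) := by
  intro i hi n hn w hw hc x hx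
  rw [mem_im] at hw
  obtain ⟨w, hw, w0, rfl⟩ := hw
  rw [mem_im] at hx
  obtain ⟨x, hx, x0, rfl⟩ := hx
  refine (f2_comm h.mod'.inj (ac_ph w0) x0).2 (h.ds.lin h.mod'.toOS0 fr i hi n hn w hw (fun z hz h1 => ?_) x hx)
  have z0 := UF_le_Om _ _ (Ch_le _ hi hz)
  exact (f2_comm h.mod'.inj (ac_ph w0) z0).1 (hc _ (ph_mem_im hz) ((f2_comm h.mod'.inj h.ac z0).2 h1))

theorem f2_lin2 (fr : Fr Q (k - 1) e f) : ∀ i < 2 * k * (k - 1), ∀ m ∈ normalizer (ψ.range : Set G),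
    (∀ x ∈ im ψ (Ch (fun i => ι (e i)) k (i + 1)), t * x * t⁻¹ * x⁻¹ ∈ im ψ (Ch (fun i => ι (e i)) k i) →
      x * m = m * x) →
    ∀ x ∈ im ψ (Ch (fun i => ι (e i)) k (i + 1)), m * x * m⁻¹ ∈ im ψ (Ch (fun i => ι (e i)) k (i + 1)) := by
  intro i hi m hm hc x hx
  have H := h.mod'
  have fr' := h.ds.fr fr
  have k4 := H.four
  have key : ∀ u v, ρ Q' (ι u) (ι v) ∈ Ch (fun i => ι (e i)) k (i + 1) → Commute m (xx ψ (ι u) (ι v)) :=
    fun u v h1 => (hc _ (ph_mem_im h1) ((f2_comm H.inj h.ac (ρ_mem Q' _ _)).2 (by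
      rw [(h.ds.comm_rat u v).eq, mul_inv_cancel_right, mul_inv_cancel]; exact one_mem _))).symm
  rw [mem_im] at hx
  obtain ⟨x, hx, x0, rfl⟩ := hx
  rcases h.ds.cases H.toOS0 fr i with ⟨S, h1, h2⟩ | ⟨v, h1, h2, h3⟩
  · have h3 : ∀ n ∈ S, Z Q' (ι (e 0)) (ι (e n)) ≤ Ch (fun i => ι (e i)) k (i + 1) := fun n hn =>
      h2 ▸ le_iSup₂_of_le n hn le_rfl
    have h4 : Ch (fun i => ι (e i)) k (i + 1) ≤
        pre ψ ((im ψ (Ch (fun i => ι (e i)) k (i + 1))).comap (MulAut.conj m).toMonoidHom) := by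
      refine h2.le.trans (iSup₂_le fun n hn z hz => mem_pre.2 ⟨A_le_Om _ (Z_le_A _ _ hz), ?_⟩)
      have r := fr'.rp (i := 0) (j := n) (by omega) (h1 n hn).2 (h1 n hn).1.ne
      have h5 := H.nZ r hm (key _ _ (h3 n hn (by simpa using ρ_mem_Z (Q := Q') (ι (e 0)) (ι (e n)) 1)))
      exact im_mono (h3 n hn) (UFP.conj_mem h5 (ph_mem_im hz))
    exact (mem_pre.1 (h4 hx)).2
  · have r := fr'.rp (i := 0) (j := 1) (by omega) (by omega) (by omega)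
    obtain ⟨γ, ha⟩ := H.ac_of_ns hm r.qu r.u0 (h.ds.pol0.2 h1) (fun e => h2 (h.ds.map0.1 e)) (key _ _ h3)
    rw [ha x x0]
    refine ph_mem_im (h.ds.lin2 H.toOS0 fr i hi γ (fun z hz h4 => ?_) x hx)
    have z0 := UF_le_Om _ _ (Ch_le _ hi hz)
    exact ((ha.comm_iff H.inj z0).1 (hc _ (ph_mem_im hz) ((f2_comm H.inj h.ac z0).2 h4)).symm).symm

theorem syl (fr : Fr Q (k - 1) e f) (hG : SLE.Glob Gs t) (hL : φ.range ≤ Gs) :
    ∀ P ≤ normalizer (ψ.range : Set G), IsPGroup 2 P → ∃ x ∈ normalizer (ψ.range : Set G), ∀ p ∈ P,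
      x * p * x⁻¹ ∈ im ψ (UF Q' (fun i => ι (e i)) (k - 1)) ⊔ zpowers t := by
  have H := h.mod'
  have fr' := h.ds.fr fr
  have c := h.chn fr
  have ht := h.not_mem hG
  have h0 := h.L_le hG hL
  have hU1 : im ψ (UF Q' (fun i => ι (e i)) (k - 1)) ≤ normalizer (ψ.range : Set G) :=
    (im_le_L _).trans le_normalizer
  obtain ⟨B, _, _, ty, hB, hty⟩ := H.typ2
  obtain ⟨S, h1, h2, hS, h3⟩ := SLE.exists_syl (IsPGroup.to_sup_of_normal_left' (H.U_two fr')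
    (UFP.pgroup_zpowers_of_sq h.t2) (zpowers_le.2 c.tU)) (sup_le hU1 (zpowers_le.2 h.tN))
  have key : ∀ x : normalizer (ψ.range : Set G), ty x = 1 → ∃ m, Odd m ∧ (x : G) ^ m ∈ ψ.range := fun x e => by
    obtain ⟨m, hm, e1⟩ := (hty x).1 e
    obtain ⟨γ, γ0, ha⟩ := H.mem_sup_iff.1 e1
    obtain ⟨d, hd, e2⟩ := ha.split γ0
    refine ⟨m * orderOf d, hm.mul (UFP.odd_orderOf h.oddW hd), ?_⟩
    rw [pow_mul, e2, Commute.mul_pow (hd _ (ph_mem γ)), pow_orderOf_eq_one, mul_one]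
    exact pow_mem (ph_mem γ) _
  have h4 := c.syl h.isU (hG.index ht) ht hG.perf h3 h2 (h1 (mem_sup_right (mem_zpowers t))) hU1 ty hB
    (fun x e => (key x e).elim fun m hm => hG.mem_of_odd hm.1 (h0 hm.2))
    (fun x e => (hty x).2 ⟨1, odd_one, by rw [pow_one]; exact mem_sup_left (im_le_L _ e)⟩)
    fun x e1 e2 => (key x e2).elim fun m hm => (H.U_max fr' hS.to_inf_left inf_le_right
      (le_inf (le_sup_left.trans h1) (im_le_L _))).le ⟨e1, SLE.mem_of_odd_pow (SLE.pg_zpowers hS e1) hm.1 hm.2⟩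
  exact fun P p1 p2 => (h3 P p1 p2).imp fun x hx => ⟨hx.1, fun p hp => h4 (hx.2 p hp)⟩

theorem eq (hG : SLE.Glob Gs t) (hL : φ.range ≤ Gs) : ψ.range = Gs := by
  have H := h.mod'
  obtain ⟨e, f, fr⟩ := h.toOS0.exists_fr
  have k4 := H.four
  have ht := h.not_mem hG
  have h0 := h.L_le hG hL
  have uw := h.toHV.uw hG hL ht (h.eqG ▸ h.isU) fr
  rw [← h.eqG] at uw
  have hU : im φ (UF Q e (k - 1)) ≤ im ψ (UF Q' (fun i => ι (e i)) (k - 1)) := by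
    refine im_le_of_le_pre (UF_le.2 fun i hi w hw => mem_pre.2 ⟨ρ_mem Q _ _, ?_⟩)
    show xx φ (e i) w ∈ _
    rw [← h.ext]
    exact ph_mem_im (ρ_mem_UF (e := fun i => ι (e i)) hi
      (mem_pp_Tn.2 fun n hn => h.ds.pol0.2 (mem_pp_Tn.1 hw n hn)))
  have D : UFP.FldData (normalizer (ψ.range : Set G)) Gs t (im ψ (UF Q' (fun i => ι (e i)) (k - 1)))
      (2 * k * (k - 1)) fun n => im ψ (Ch (fun i => ι (e i)) k n) :=
    ⟨h.chn fr, (im_le_L _).trans le_normalizer, (im_le_L _).trans h0, h.syl fr hG hL, h.f2_lin fr, h.f2_lin2 fr,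
      uw.mono (le_inf hU fun x hx => UFP.mem_cent1.2 (h.tC _ (im_le_L _ hx)).symm)⟩
  have r := (h.ds.fr fr).rp (i := 0) (j := 1) (by omega) (by omega) (by omega)
  exact hG.eq_of_norm h0 (UFP.le_of_invol hG.simple (h0 (xx_mem _ _)) (H.xx_ne r) (H.toOS0.xx_sq _ _)
    fun u h2 h3 => D.mem h.isU (hG.index ht) ht h2 h3) (xx_mem _ _) (H.xx_ne r)

end DblF

end CfsgLib.SL8
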