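import Cfsg.Agent.Lib.SLD.Fus2
import Cfsg.Agent.Lib.SL8.Fus1
import Cfsg.Agent.Lib.SL8.Lri

/-! Fusion of `t` with `t z` -/

set_option autoImplicit false
set_option linter.unusedSectionVars false

namespace CfsgLib.SL8

open CfsgLib.SLD Subgroup QuadraticMap CfsgLib.OrthE Module
open scoped commutatorElement Pointwise

universe u

variable {F V : Type} [Field F] [Finite F] [AddCommGroup V] [Module F V] [Finite V] {Q : QuadraticForm F V}
  {k : ℕ} {G : Type u} [Group G] [Finite G] {φ : Om Q →* G} {t : G}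

namespace Sit

variable (h : Sit Q 4 φ t)
include h

theorem not_dc (hB : NB φ t) {l : SI Q} {P W D : Subgroup (SI Q)} (d : DC l P W D) {s : G} (hs : IsConj t s)
    (e : s = ph φ l ∨ s = ph φ l * t) : False := by
  have lO := d.WO d.lW
  have l2 := d.sq l d.lW
  have ct : ∀ γ, Commute (ph φ γ) t := fun γ => h.com (ph_mem γ)
  have sq : ∀ w ∈ W, ph φ w * ph φ w = 1 := fun w hw => by rw [← ph_mul (d.WO hw) (d.WO hw), d.sq w hw, ph_one]
  have cs : ∀ p, Commute p t → (Commute p s ↔ Commute p (ph φ l)) := fun p hp => by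
    rcases e with rfl | rfl
    exacts [Iff.rfl, ⟨fun c => by simpa using c.mul_right hp.inv_right, fun c => c.mul_right hp⟩]
  have hc : Commute t s := (cs t (Commute.refl t)).2 (ct l).symm
  obtain ⟨φ', e', f, h', hB', fr, hn⟩ := h.exists_cj hs (fus2_pg (pg_im (φ := φ) d.P2) h.t2
    fun p hp => h.com (im_le_L _ hp)) (sup_le (zpowers_le.2 (mem_centralizer_singleton_iff.2 hc))
      (im_le.2 fun p hp hO => mem_centralizer_singleton_iff.2 ((cs _ (ct p)).2 (ph_comm hO lO (d.Pl p hp)))))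
  replace hB' := hB' hB
  have k4 := h.four
  have r := fr.rp (i := 0) (j := 1) (by omega) (by omega) (by decide)
  set z := zz φ' (e' 0) (e' 1) with hz
  set K := centralizer (Set.range z)
  have mK : ∀ {g}, g ∈ K ↔ ∀ c, Commute (z c) g := mem_centralizer_iff.trans Set.forall_mem_range
  have cz : ∀ {g γ}, Ac φ' g γ → Flg e' (4 - 1) γ → γ.σ = 1 → g ∈ K := fun a1 a2 a3 => mK.2 fun c => by
    have := h'.af_zz fr a1 a2 c
    rw [a3, mul_inv_eq_iff_eq_mul] at this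
    exact this.symm
  have tK : t ∈ K := by
    obtain ⟨γ, a1, a2⟩ := hn t (mem_sup_left (mem_zpowers t))
    exact cz a1 a2 (h'.not_semi _)
  have big : Big P (P ⊓ pre φ K) := ⟨inf_le_left, fun hq p hp => ⟨hp, mem_pre.2 ⟨d.PO hp, by
      obtain ⟨γ, a1, a2⟩ := hn _ (mem_sup_right (ph_mem_im hp))
      exact cz a1 a2 (σ_eq_one hq _)⟩⟩, fun a ha b hb a2 b2 na nb => ⟨mul_mem ha hb, mem_pre.2
      ⟨d.PO (mul_mem ha hb), by
      obtain ⟨γ, p1, p2⟩ := hn _ (mem_sup_right (ph_mem_im ha))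
      obtain ⟨δ, q1, q2⟩ := hn _ (mem_sup_right (ph_mem_im hb))
      have s1 : γ.σ * γ.σ = 1 := by
        rw [← σ_mul, h'.ac_sq p1 (by rw [← ph_mul (d.PO ha) (d.PO ha), a2, ph_one]), σ_one]
      have s2 : δ.σ * δ.σ = 1 := by
        rw [← σ_mul, h'.ac_sq q1 (by rw [← ph_mul (d.PO hb) (d.PO hb), b2, ph_one]), σ_one]
      rw [ph_mul (d.PO ha) (d.PO hb)]
      exact cz (p1.mul q1) (p2.mul q2) (by
        rw [σ_mul, σ_eq_of_sq s1 s2 (fun e => na ⟨ha, mem_pre.2 ⟨d.PO ha, cz p1 p2 e⟩⟩)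
          (fun e => nb ⟨hb, mem_pre.2 ⟨d.PO hb, cz q1 q2 e⟩⟩), s2])⟩⟩⟩
  have key : ∀ c, c ≠ 0 → (∃ w ∈ W, z c = ph φ w ∨ z c = ph φ w * t) ∧ ¬ IsConj s (z c) ∧ ¬ IsConj s (s * z c) := by
    intro c c0
    refine ⟨?_, h'.nz ⟨_, _, r.smul c0, rfl⟩, hB' _ ⟨_, _, r.smul c0, rfl⟩⟩
    obtain ⟨u, v, hu, u0, hv, hq, hm⟩ := d.ex _ big
    obtain ⟨δ, a⟩ := h.ac_of_ns (h.cN (mK.1 tK c)) hu u0 hv hq (mK.1 (mem_pre.1 hm.2).2 c)
    have hw := d.cen _ big δ fun p hp => ((a.comm_iff h.inj (d.PO hp.1)).1 (mK.1 (mem_pre.1 hp.2).2 c)).symm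
    obtain ⟨x, hx, e1⟩ := a.split (d.WO hw)
    refine ⟨δ, hw, (h.eq_t (ph_mem δ) hx (sq δ hw) (e1 ▸ h.xx_sq _ _) (e1 ▸ mK.1 tK c)).imp (fun e2 => ?_) fun e2 => ?_⟩
    · rw [e1, e2, mul_one]
    · rw [e1, e2]
  have cj1 : ∀ w ∈ W, w ∉ D → IsConj (ph φ l) (ph φ w) ∧ IsConj (ph φ l * t) (ph φ w * t) := fun w hw hw' => by
    obtain ⟨a, ha, e1⟩ := d.cj w hw hw'
    have e2 := ph_conj (φ := φ) ha lO
    rw [e1] at e2
    exact ⟨isConj_iff.2 ⟨_, e2⟩, isConj_iff.2 ⟨ph φ a, by rw [← conj_mul, e2, (ct a).eq, mul_inv_cancel_right]⟩⟩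
  have zi : ∀ x y, (z x)⁻¹ * z y = z (x + y) := fun x y => by rw [hz, lri_zadd r, zz, h.xx_inv]
  have tL : ∀ H : Subgroup (SI Q), t ∉ im φ H := fun H ht => h.t_not_mem (im_le_L _ ht)
  have tw : ∀ w, t⁻¹ * (ph φ w * t) = ph φ w := fun w => by rw [(ct w).eq, inv_mul_cancel_left]
  have last : Nat.card F = 2 → ∀ x ∈ Om Q, Commute (z 1) (ph φ x) → x * x = 1 → (x * l) ^ 4 = 1 → Commute x l := by
    intro hq x hx c x2 x4
    have lK : ph φ l ∈ K := mK.2 fun c => (cs _ (mK.1 tK c)).1 (h'.com (xx_mem _ _))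
    have xK : ph φ x ∈ K := mK.2 fun a => by
      rcases zero_or_one hq a with rfl | rfl
      · rw [hz, zz, zero_smul, xx_zero]; exact Commute.one_left _
      · exact c
    have p2 : IsPGroup 2 (zpowers l ⊔ zpowers (x * l) : Subgroup (SI Q)) :=
      (HX.FusAux.two_zp l2).to_sup_of_normal_right' (WD.Two.pgroup ⟨2, x4⟩) (zpowers_le.2 (HX.FusAux.nrm (by
        rintro _ ⟨i, rfl⟩
        rw [← conj_zpow, ← mul_assoc, mul_inv_cancel_right, ← inv_eq_of_mul_eq_one_right l2,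
          ← inv_eq_of_mul_eq_one_right x2, ← mul_inv_rev, inv_eq_of_mul_eq_one_right l2,
          inv_eq_of_mul_eq_one_right x2]
        exact zpow_mem (inv_mem (mem_zpowers _)) i)))
    have m1 : ph φ l ∈ zpowers t ⊔ im φ (zpowers l ⊔ zpowers (x * l)) :=
      mem_sup_right (ph_mem_im (mem_sup_left (mem_zpowers l)))
    have := h'.iso2 (r := z 1) ⟨_, _, r.smul one_ne_zero, rfl⟩ (hB' _ ⟨_, _, r.smul one_ne_zero, rfl⟩) (fus2_pg (pg_im (φ := φ) p2) h.t2 fun p hp => h.com (im_le_L _ hp))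
      (e.elim (fun e => e ▸ m1) fun e => e ▸ mul_mem m1 (mem_sup_left (mem_zpowers t)))
      (fun p hp => (mK.1 (sup_le (zpowers_le.2 tK) (im_le_of_le_pre (sup_le (zpowers_le.2 (mem_pre.2 ⟨lO, lK⟩))
        (zpowers_le.2 (mem_pre.2 ⟨mul_mem hx lO, ph_mul (φ := φ) hx lO ▸ mul_mem xK lK⟩)))) hp) 1).symm)
      (mem_sup_right (ph_mem_im (mem_sup_right (mem_zpowers _))))
    simpa using (comm_of_ph h.inj (mul_mem hx lO) lO
      ((cs _ (ct _)).1 (mem_centralizer_singleton_iff.1 this))).mul_left (Commute.refl l).inv_left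
  have fin : Nat.card F = 2 → ∀ w ∈ W, z 1 = ph φ w ∨ z 1 = ph φ w * t → w ≠ l → False := by
    intro hq w hw e1 n
    have c : ∀ x ∈ Om Q, Commute x w → Commute (z 1) (ph φ x) := fun x hx c => by
      have := ph_comm (φ := φ) hx (d.WO hw) c
      rcases e1 with e1 | e1 <;> rw [e1]
      exacts [this.symm, this.symm.mul_left (ct x).symm]
    by_cases hD : w ∈ D
    · obtain ⟨x, hx, c1, c2, x2, x4⟩ := d.x1 hq w hD
      exact c2 (last hq x hx (c x hx c1) x2 x4)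
    · obtain ⟨x, hx, c1, c2, x2, x4⟩ := d.x2 hq _ (d.two hq w hw hD) fun e2 => n (by
        rw [← inv_eq_of_mul_eq_one_right l2]; exact eq_inv_of_mul_eq_one_right e2)
      rw [← mul_assoc, l2, one_mul] at c1
      exact c2 (last hq x hx (c x hx c1) x2 x4)
  obtain ⟨⟨w, hw, e1⟩, n1, n2⟩ := key 1 one_ne_zero
  rcases e with rfl | rfl
  · refine fin (fus2_two h.toOS0 (tL W) (tL W) zi fun c c0 => Or.inl ?_) w hw e1 ?_
    · obtain ⟨⟨w, hw, e1 | e1⟩, n1, n2⟩ := key c c0 <;> rw [e1] at n1 n2 ⊢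
      · by_cases hD : w ∈ D
        · rw [← ph_mul lO (d.WO hw)] at n2
          exact (n2 (cj1 _ (mul_mem d.lW hw) fun h0 => d.lD ((Subgroup.mul_mem_cancel_right _ hD).1 h0)).1).elim
        · exact (n1 (cj1 w hw hD).1).elim
      · rw [tw]
        exact ph_mem_im hw
    · rintro rfl
      rcases e1 with e1 | e1 <;> rw [e1] at n1 n2
      · exact n1 (IsConj.refl _)
      · rw [← mul_assoc, sq w hw, one_mul] at n2
        exact n2 hs.symm
  · refine fin (fus2_two h.toOS0 (fun h0 => d.lD ((ph_mem_iff h.inj lO).1 h0)) (tL D) zi fun c c0 => ?_) w hw e1 ?_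
    · obtain ⟨⟨w, hw, e1 | e1⟩, n1, n2⟩ := key c c0 <;> rw [e1] at n1 n2 ⊢
      · rw [mul_assoc, ← (ct w).eq, ← mul_assoc, ← ph_mul lO (d.WO hw)] at n2
        rw [inv_eq_of_mul_eq_one_right (sq l d.lW), ← ph_mul lO (d.WO hw)]
        exact Or.inl (ph_mem_im (by_contra fun hD => n2 (cj1 _ (mul_mem d.lW hw) hD).2))
      · rw [tw]
        exact Or.inr (ph_mem_im (by_contra fun hD => n1 (cj1 w hw hD).2))
    · rintro rfl
      rcases e1 with e1 | e1 <;> rw [e1] at n1 n2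
      · rw [mul_assoc, ← (ct w).eq, ← mul_assoc, sq w hw, one_mul] at n2
        exact n2 hs.symm
      · exact n1 (IsConj.refl _)

theorem not_inner (hB : NB φ t) {s : G} (hs : IsConj t s) (hc : Commute s t) (hne : s ≠ t)
    (h0 : s ∈ φ.range ⊔ centralizer (φ.range : Set G)) : False := by
  have s2 : s * s = 1 := by
    obtain ⟨g, rfl⟩ := isConj_iff.1 hs
    exact (h.cj g).t2
  obtain ⟨l, hl, a⟩ := h.mem_sup_iff.1 h0
  have l2 := h.ac_sq a s2
  obtain ⟨c, hc', rfl⟩ := a.split hl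
  have hk := h.eq_t (ph_mem l) hc' (by rw [← ph_mul hl hl, l2, ph_one]) s2 hc
  have l1 : l ≠ 1 := by
    rintro rfl
    rw [ph_one, one_mul] at hs hne
    rcases hk with rfl | rfl
    exacts [h.t1 (isConj_one_left.1 hs), hne rfl]
  rcases h.dc hl l2 l1 with ⟨u, v, r, rfl⟩ | ⟨P, W, D, d⟩
  · rcases hk with rfl | rfl
    · exact h.nz ⟨u, v, r, mul_one _⟩ hs
    · exact hB _ ⟨u, v, r, rfl⟩ ((h.com (ph_mem _)).eq ▸ hs)
  · exact h.not_dc hB d hs (hk.imp (fun e => by rw [e, mul_one]) fun e => by rw [e])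

theorem exists_comm {Gs : Subgroup G} (hG : SLE.Glob Gs t) (hL : φ.range ≤ Gs) :
    ∃ g, g * t * g⁻¹ ≠ t ∧ Commute (g * t * g⁻¹) t := by
  obtain ⟨e, f, fr⟩ := h.exists_fr
  have k4 := h.four
  obtain ⟨s, h1, h2, h3⟩ := hG.exists_conj (even_iff_two_dvd.2 (by
    rw [← Invol.orderOf_eq_two (h.xx_ne (fr.rp (i := 0) (j := 1) (by omega) (by omega) (by decide))) (h.xx_sq _ _)]
    exact orderOf_dvd_natCard _ (hL (xx_mem _ _)))) h.t2 h.t1
  obtain ⟨g, rfl⟩ := isConj_iff.1 h1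
  exact ⟨g, h3, h2⟩

theorem fus {Gs : Subgroup G} (hG : SLE.Glob Gs t) (hL : φ.range ≤ Gs) {r : G} (hr : Rt φ r) : IsConj t (t * r) := by
  by_contra hn
  obtain ⟨g, h1, h2⟩ := h.exists_comm hG hL
  obtain ⟨φ', t', s', h', hB, a1, a2, a3, a4⟩ := h.exists_inner (h.nb_of hr hn) (isConj_iff.2 ⟨g, rfl⟩) h2 h1
  exact h'.not_inner hB a1 a2 a3 a4

end Sit

end CfsgLib.SL8
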