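import Cfsg.Agent.Lib.SLD.Q2b
import Cfsg.Agent.Lib.SL8.Loc

/-! `q = 2`: the involutions moving `t` to `t x` -/

set_option autoImplicit false
set_option linter.unusedSectionVars false

namespace CfsgLib.SL8

open CfsgLib.SLD Subgroup QuadraticMap CfsgLib.OrthE Module
open scoped commutatorElement Pointwise

universe u

variable {F V : Type} [Field F] [Finite F] [AddCommGroup V] [Module F V] [Finite V] {Q : QuadraticForm F V}
  {k : ℕ} {G : Type u} [Group G] [Finite G] {φ : Om Q →* G} {t : G}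

namespace Sit

variable (h : Sit Q k φ t)
include h

variable {u v w : V} {g g' p : G}

theorem xx_Fx (r : RP Q u v) (s : F) : xx φ u (s • v) ∈ im φ (Fx Q {u, v}) :=
  ph_mem_im (h.NT_le_Fx r (h.Z_le_NT r (ρ_mem_Z u v s)))

theorem xx_Fx' (r : RP Q u v) : xx φ u v ∈ im φ (Fx Q {u, v}) := by simpa using h.xx_Fx r 1

theorem cQF (r : RP Q u v) (k : Commute g t) (m : g ∈ centralizer (im φ (Fx Q {u, v}) : Set G)) :
    ∃ s : F, ∃ c ∈ centralizer (φ.range : Set G), g = xx φ u (s • v) * c :=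
  h.cQ' r (h.cN k) (centralizer_le (im_mono (h.NT_le_Fx r)) m)

theorem zC (r : RP Q u v) {s : F} (e : xx φ u (s • v) ∈ centralizer (φ.range : Set G)) : xx φ u (s • v) = 1 :=
  h.eq_one' (xx_mem _ _) e

theorem mvC (r : RP Q u v) (hp : p ∈ centralizer (im φ (Fx Q {u, v}) : Set G))
    (e : p * t * p⁻¹ = t * xx φ u v) {c : G} (hc : c ∈ centralizer (φ.range : Set G)) (ct : c * t = t * c) :
    Commute (p * c * p⁻¹) t ∧ ∃ s : F, ∃ c' ∈ centralizer (φ.range : Set G), p * c * p⁻¹ = xx φ u (s • v) * c' := by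
  have m : p * c * p⁻¹ ∈ centralizer (im φ (Fx Q {u, v}) : Set G) :=
    mul_mem (mul_mem hp (centralizer_le (im_le_L _) hc)) (inv_mem hp)
  have k : Commute (p * c * p⁻¹) t := by
    have := ((Commute.conj_iff p).2 ct).mul_right (show Commute _ _ from m _ (h.xx_Fx' r)).symm
    rwa [e, mul_assoc t, h.xx_sq, mul_one] at this
  exact ⟨k, h.cQF r k m⟩

theorem two_of' (r : RP Q u v) (hp : p ∈ centralizer (im φ (Fx Q {u, v}) : Set G))
    (e : p * t * p⁻¹ = t * xx φ u v) : HX.Two φ.range t := fun c hc ct h2 => by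
  obtain ⟨n, hk⟩ := HX.A2D.two_iff.1 h2
  clear h2
  induction n generalizing c with
  | zero => exact .inl (by simpa using hk)
  | succ n ih =>
    rcases ih (c * c) (mul_mem hc hc) (Commute.mul_left ct ct) (by rw [← pow_two, ← pow_mul, ← pow_succ', hk]) with
      e1 | e1
    · exact h.invol hc ct e1
    · obtain ⟨-, s, c', hc', e2⟩ := h.mvC r hp e hc ct
      have : xx φ u v = t⁻¹ * (c' * c') := by
        rw [eq_inv_mul_iff_mul_eq, ← e, ← e1, ← conj_mul, e2,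
          (show Commute (xx φ u (s • v)) c' from hc' _ (xx_mem _ _)).symm.mul_mul_mul_comm, h.xx_sq, one_mul]
      exact absurd (h.eq_one' (xx_mem _ _) (this ▸ mul_mem (inv_mem h.tC) (mul_mem hc' hc'))) (h.xx_ne r)

theorem cF_conj (hp : p ∈ centralizer (im φ (Fx Q {u, v}) : Set G)) {γ : SI Q} (hγ : γ ∈ Om Q) :
    ph φ γ * p * (ph φ γ)⁻¹ ∈ centralizer (im φ (Fx Q {γ • u, γ • v}) : Set G) := fun y hy => by
  obtain ⟨a, ha, aO, rfl⟩ := mem_im.1 hy
  have := hp _ (ph_mem_im (H := Fx Q {u, v}) (γ := γ⁻¹ * a * γ⁻¹⁻¹) (mem_Fx.2 ⟨Om_normal.conj_mem a aO _, by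
    rintro _ (rfl | rfl) <;> rw [inv_inv, mul_smul, mul_smul, (mem_Fx.1 ha).2 _ (by simp), inv_smul_smul]⟩))
  rw [← ph_conj (inv_mem hγ) aO, ph_inv hγ] at this
  calc _ = ph φ γ * ((ph φ γ)⁻¹ * ph φ a * (ph φ γ)⁻¹⁻¹ * p) * (ph φ γ)⁻¹ := by group
    _ = _ := by rw [this]; group

theorem ii_conj (d : II φ t u v g) {γ : SI Q} (hγ : γ ∈ Om Q) :
    II φ t (γ • u) (γ • v) (ph φ γ * g * (ph φ γ)⁻¹) :=
  ⟨by rw [conj_mul, d.sq, mul_one, mul_inv_cancel], h.cF_conj d.cY hγ, by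
    rw [h.conj_mv (ph_mem γ) d.mv, conj_xx hγ],
    ((HX.CO.of_mem (ph_mem γ)).mul d.co).mul (HX.CO.of_mem (inv_mem (ph_mem γ)))⟩

theorem ii_mul (r : RP Q u v) (d : II φ t u v g) : II φ t u v (g * xx φ u v) := by
  refine ⟨?_, mul_mem d.cY fun y hy => ?_, ?_, d.co.mul (HX.CO.of_mem (xx_mem _ _))⟩
  · rw [(show Commute _ _ from d.cY _ (h.xx_Fx' r)).mul_mul_mul_comm, d.sq, h.xx_sq, mul_one]
  · obtain ⟨a, ha, aO, rfl⟩ := mem_im.1 hy
    exact comm_xx aO ((mem_Fx.1 ha).2 _ (by simp)) ((mem_Fx.1 ha).2 _ (by simp))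
  · rw [← d.mv, mul_assoc g, (h.com (xx_mem _ _)).eq]; group

theorem ii_ln (hq : Nat.card F = 2) {u' v' : V} (r : RP Q u v) (r' : RP Q u' v') (e : ln F u' v' = ln F u v)
    (d : II φ t u v g) : xx φ u' v' = xx φ u v ∧ II φ t u' v' g := by
  have e1 : xx φ u' v' = xx φ u v := by
    obtain ⟨a, b, rfl⟩ := mem_ln.1 (e ▸ left_mem_ln u' v')
    obtain ⟨c, c', rfl⟩ := mem_ln.1 (e ▸ right_mem_ln _ v')
    have := h.ρ_ne_one r'
    rw [xx, xx, h.ρ_ln r.qu r.qv r.uv] at *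
    rcases zero_or_one hq (a * c' + b * c) with f | f <;> rw [f] at this ⊢
    · exact absurd (by rw [zero_smul, ρ_zero]) this
    · rw [one_smul]
  exact ⟨e1, d.sq, by rw [Fx_ln, e, ← Fx_ln]; exact d.cY, e1 ▸ d.mv, d.co⟩

theorem exists_co (r : RP Q u v) (hp : p ∈ centralizer (im φ (Fx Q {u, v}) : Set G))
    (e : p * t * p⁻¹ = t * xx φ u v) : ∃ p' ∈ centralizer (im φ (Fx Q {u, v}) : Set G),
      p' * t * p'⁻¹ = t * xx φ u v ∧ HX.CO φ.range t p' := by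
  obtain ⟨b, f, fr, rfl, rfl⟩ := h.fr_rp r
  have k4 := h.four
  replace fr : Fr Q 3 b f := fr.mono (by omega)
  have hT := fr.ts le_rfl
  have m0 : b 0 ∈ Tn F b 3 := e_mem_Tn (by omega)
  have m1 : b 1 ∈ Tn F b 3 := e_mem_Tn (by omega)
  have m2 : b 2 ∈ Tn F b 3 := e_mem_Tn (by omega)
  have cT : ∀ {x y g}, x ∈ Tn F b 3 → y ∈ Tn F b 3 → g ∈ centralizer (im φ (Fx Q {x, y}) : Set G) →
      g ∈ centralizer (im φ (NT Q (Tn F b 3)) : Set G) := fun {x y g} hx hy => @centralizer_le _ _ _ _ (im_mono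
    (K := Fx Q {x, y}) fun n hn => mem_Fx.2 ⟨h.NT_le_Om hT hn, by
      rintro _ (rfl | rfl); exacts [hn.2.1 _ hx, hn.2.1 _ hy]⟩) g
  have nO : ∀ o ∈ centralizer (φ.range : Set G), o * t = t * o → Odd (orderOf o) →
      p * o * p⁻¹ ∈ centralizer (φ.range : Set G) ∧ Commute (p * o * p⁻¹) t := fun o ho ot od => by
    obtain ⟨k, s, c, hc, e1⟩ := h.mvC r hp e ho ot
    have e2 : xx φ (b 0) (s • b 1) * c ^ orderOf o = 1 := by
      rw [← StdInt.odd_pow_sq (h.xx_sq _ _) od, ← (show Commute _ c from hc _ (xx_mem _ _)).mul_pow, ← e1, conj_pow,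
        pow_orderOf_eq_one, mul_one, mul_inv_cancel]
    rw [h.zC r (by rw [eq_inv_of_mul_eq_one_left e2]; exact inv_mem (pow_mem hc _)), one_mul] at e1
    exact ⟨e1 ▸ hc, k⟩
  have lO : ∀ l ∈ φ.range, ∀ o ∈ centralizer (φ.range : Set G), o * t = t * o → Odd (orderOf o) →
      l * p * l⁻¹ * o * (l * p * l⁻¹)⁻¹ = p * o * p⁻¹ := fun l hl o ho ot od => by
    calc _ = l * (p * (l⁻¹ * o * l) * p⁻¹) * l⁻¹ := by group
      _ = _ := by
        rw [mul_assoc l⁻¹, ← ho l hl, inv_mul_cancel_left, (nO o ho ot od).1 l hl, mul_inv_cancel_right]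
  have r2 : RP Q (b 0) (b 2) := fr.rp (by omega) (by omega) (by omega)
  have m12 := Submodule.add_mem _ m1 m2
  obtain ⟨l, hl, l0, l1⟩ := h.rp_conj r r2
  obtain ⟨m, hm, n0, n1⟩ := h.rp_conj r (u' := b 0) (v' := b 1 + b 2) ⟨r.qu, hT _ m12, hT.le_pp m0 _ m12, r.u0,
    fun a c => by simpa [polar_add_left, polar_smul_left, fr.ef, fr.ef'] using congrArg (polar Q · (f 1)) c⟩
  have lR := cT m0 m2 (l0 ▸ l1 ▸ h.cF_conj hp hl)
  have mR := cT m0 m12 (n0 ▸ n1 ▸ h.cF_conj hp hm)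
  have pR := cT m0 m1 hp
  have el := h.conj_mv (ph_mem l) e
  have em := h.conj_mv (ph_mem m) e
  rw [conj_xx hl, l0, l1] at el
  rw [conj_xx hm, n0, n1] at em
  have kt : Commute ((ph φ m * p * (ph φ m)⁻¹)⁻¹ * p * (ph φ l * p * (ph φ l)⁻¹)) t := StdL.comm_of_conj (by
    generalize ph φ m * p * (ph φ m)⁻¹ = M at em
    generalize ph φ l * p * (ph φ l)⁻¹ = L at el
    calc _ = M⁻¹ * (p * (L * t * L⁻¹) * p⁻¹) * M := by group
      _ = M⁻¹ * (M * t * M⁻¹) * M := by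
        rw [el, em, ← conj_mul, e, ← pR (xx φ _ _) (ph_mem_im (ρ_mem_NT hT m0 (hT.le_pp m2))),
          mul_inv_cancel_right, mul_assoc t, xx_mul r.qu r.uv r2.uv]
      _ = t := by group)
  obtain ⟨x, -, c, hc, ek⟩ := h.cN' hT (by rw [fr.finrank_Tn le_rfl]; omega) (by rw [fr.finrank_Tn le_rfl]; omega)
    (h.cN kt) (mul_mem (mul_mem (inv_mem mR) pR) lR)
  have ct : Commute c t := by
    have := (h.com (ph_mem x)).inv_left.mul_left kt
    rwa [ek, inv_mul_cancel_left] at this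
  obtain ⟨o, ho, ot, -, ec⟩ := (h.two_of' r hp e).dec hc ct
  refine ⟨o⁻¹ * p, mul_mem (inv_mem (centralizer_le (im_le_L _) ho)) hp, ?_, fun o' ho' ot' od' => ?_⟩
  · calc _ = o⁻¹ * (p * t * p⁻¹) * o := by group
      _ = _ := by rw [e, mul_assoc, mul_assoc, ho _ (xx_mem _ _), ← mul_assoc t, ← ot]; group
  · have e1 : ph φ x * c * o' * (ph φ x * c)⁻¹ = p * o' * p⁻¹ := by
      obtain ⟨k1, k2⟩ := nO o' ho' ot' od'
      rw [← ek]
      calc _ = (ph φ m * p * (ph φ m)⁻¹)⁻¹ * (p * (ph φ l * p * (ph φ l)⁻¹ * o' * (ph φ l * p * (ph φ l)⁻¹)⁻¹) *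
            p⁻¹) * (ph φ m * p * (ph φ m)⁻¹) := by group
        _ = _ := by
          rw [lO _ (ph_mem l) o' ho' ot' od', ← lO _ (ph_mem m) _ k1 k2 (StdInt.odd_conj p od')]; group
    have e2 : c * o' * c⁻¹ = o * o' * o⁻¹ := ec.elim (· ▸ rfl) fun f => by
      rw [f, show t * o * o' * (t * o)⁻¹ = t * (o * o' * o⁻¹) * t⁻¹ by group]
      exact StdL.conj_of_comm ((Commute.mul_left ot ot').mul_left (Commute.inv_left ot)).symm
    rw [show ph φ x * c * o' * (ph φ x * c)⁻¹ = ph φ x * (c * o' * c⁻¹) * (ph φ x)⁻¹ by group, e2,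
      mul_mem (mul_mem ho ho') (inv_mem ho) _ (ph_mem x), mul_inv_cancel_right] at e1
    calc _ = o⁻¹ * (p * o' * p⁻¹) * p := by group
      _ = _ := by rw [← e1]; group

theorem ii_exists (hq : Nat.card F = 2) (r : RP Q u v) (hp : p ∈ centralizer (im φ (Fx Q {u, v}) : Set G))
    (e : p * t * p⁻¹ = t * xx φ u v) : ∃ g, II φ t u v g := by
  have h2 := h.two_of' r hp e
  obtain ⟨p, hp, e, co⟩ := h.exists_co r hp e
  obtain ⟨n, hn, m, hm⟩ := StdL.exists_odd_two p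
  have k : ∀ n : ℕ, HX.CO φ.range t (p ^ n) ∧ p ^ n * t * (p ^ n)⁻¹ = t * xx φ u v ^ n := fun n => by
    induction n with
    | zero => exact ⟨HX.CO.of_mem (by simp), by simp⟩
    | succ n ih =>
      refine ⟨pow_succ p n ▸ ih.1.mul co, ?_⟩
      calc _ = p * (p ^ n * t * (p ^ n)⁻¹) * p⁻¹ := by group
        _ = _ := by
          rw [ih.2, ← conj_mul, e, ← hp _ (pow_mem (h.xx_Fx' r) n), mul_inv_cancel_right, pow_succ', mul_assoc]
  obtain ⟨c1, c2⟩ := k n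
  rw [StdInt.odd_pow_sq (h.xx_sq _ _) hn] at c2
  have c3 := pow_mem hp n
  generalize p ^ n = g at hm c1 c2 c3
  have gx : Commute (xx φ u v) g := c3 _ (h.xx_Fx' r)
  have kt : Commute (g * g) t := StdL.comm_of_conj (by
    rw [HX.conj_mul_of c2 (show g * (t * xx φ u v) * g⁻¹ = t * xx φ u v * xx φ u v by
      rw [← conj_mul, c2, gx.symm.eq, mul_inv_cancel_right]), mul_assoc, h.xx_sq, mul_one])
  obtain ⟨s, c, hc, e1⟩ := h.cQF r kt (mul_mem c3 c3)
  have gs : Commute (xx φ u (s • v)) g := c3 _ (h.xx_Fx r s)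
  have e2 : c = xx φ u (s • v) * (g * g) := by rw [e1, ← mul_assoc, h.xx_sq, one_mul]
  rcases h2 c hc (e2 ▸ (h.com (xx_mem _ _)).mul_left kt) (HX.A2D.two_iff.2 ⟨m + 1, by
    rw [e2, (gs.mul_right gs).mul_pow, pow_succ' 2 m, pow_mul, pow_two, h.xx_sq, one_pow, one_mul, ← pow_two g,
      ← pow_mul, mul_comm 2, pow_mul, mul_comm 2, pow_mul, hm, one_pow, one_pow]⟩) with f | f
  · rw [f, mul_one] at e1
    rcases zero_or_one hq s with rfl | rfl
    · exact ⟨g, by rw [e1, zero_smul, xx_zero], c3, c2, c1⟩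
    · refine ⟨t * g, ?_, mul_mem (centralizer_le (im_le_L _) h.tC) c3, ?_, HX.CO.self.mul c1⟩
      · calc _ = t * (g * t * g⁻¹) * (g * g) := by group
          _ = _ := by rw [c2, e1, one_smul, ← mul_assoc t, h.t2, one_mul, h.xx_sq]
      · rw [HX.conj_mul_of c2 (g := t) (z := t * xx φ u v) (by
          rw [← (h.com (xx_mem u v)).eq, ← mul_assoc, ← (h.com (xx_mem u v)).eq, mul_inv_cancel_right])]
  · have : Commute g t := by
      rw [← f, e2]; exact gs.symm.mul_right ((Commute.refl g).mul_right (Commute.refl g))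
    rw [this.eq, mul_inv_cancel_right, left_eq_mul] at c2
    exact absurd c2 (h.xx_ne r)

theorem ii_t (r : RP Q u v) (d : II φ t u v g) : t * g = g * xx φ u v * t := by
  have e := d.mv
  rw [mul_inv_eq_iff_eq_mul, mul_assoc, (d.xc r.ts (left_mem_ln u v) (right_mem_ln u v) (left_mem_ln u v)
    (right_mem_ln u v)).eq] at e
  rw [mul_assoc, (h.com (xx_mem u v)).eq, ← mul_assoc, e, mul_assoc, mul_assoc, h.xx_sq, mul_one]

theorem rp3 (r : RP Q u v) (hw : Q w = 0) (h0 : polar Q u w = 0) (h3 : w ∉ ln F u v) : RP Q u w :=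
  ⟨r.qu, hw, h0, r.u0, fun a e => h3 (e ▸ Submodule.smul_mem _ a (left_mem_ln u v))⟩

theorem ii_ex {u' v' : V} (r : RP Q u v) (r' : RP Q u' v') (d : II φ t u v g) : ∃ g', II φ t u' v' g' := by
  obtain ⟨γ, hγ, rfl, rfl⟩ := h.rp_conj r r'
  exact ⟨_, h.ii_conj d hγ⟩

variable (hq : Nat.card F = 2) (h2 : HX.Two φ.range t)
include hq h2

theorem ii_pair (r : RP Q u v) (d : II φ t u v g) (d' : II φ t u v g') : g' = g ∨ g' = g * xx φ u v := by
  have kt : Commute (g⁻¹ * g') t := StdL.comm_of_conj (by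
    calc _ = g⁻¹ * (g' * t * g'⁻¹) * g := by group
      _ = _ := by rw [d'.mv, ← d.mv]; group)
  obtain ⟨s, c, hc, e⟩ := h.cQF r kt (mul_mem (inv_mem d.cY) d'.cY)
  have gs : Commute (xx φ u (s • v)) g := d.cY _ (h.xx_Fx r s)
  have ct : Commute c t := by
    have := (h.com (xx_mem u (s • v))).inv_left.mul_left kt
    rwa [e, inv_mul_cancel_left] at this
  obtain ⟨o, oC, ot, oo, e'⟩ := h2.dec hc ct
  rw [inv_mul_eq_iff_eq_mul] at e
  have go : Commute (g * xx φ u (s • v)) o := Commute.mul_left (d.co o oC ot oo) (oC _ (xx_mem _ _))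
  have k := d'.sq
  rcases e' with rfl | rfl
  · rw [e, ← mul_assoc g, go.symm.mul_mul_mul_comm, gs.mul_mul_mul_comm, d.sq, h.xx_sq, one_mul, one_mul] at k
    have : c = 1 := by rw [← StdInt.odd_pow_sq k oo, pow_orderOf_eq_one]
    rw [this, mul_one] at e
    rcases zero_or_one hq s with rfl | rfl
    · exact .inl (by rw [e, zero_smul, xx_zero, mul_one])
    · exact .inr (by rw [e, one_smul])
  · rw [e, ← mul_assoc g, ← mul_assoc _ t, (go.mul_left ot.symm).symm.mul_mul_mul_comm, mul_assoc g,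
      (h.com (xx_mem _ _)).eq, ← mul_assoc g, (gs.mul_right (h.com (xx_mem _ _))).mul_mul_mul_comm, h.xx_sq,
      mul_one, show g * t * (g * t) = g * t * g⁻¹ * t by rw [d.inv, mul_assoc (g * t)], d.mv, mul_assoc t,
      (h.com (xx_mem _ _)).eq, ← mul_assoc t, h.t2, one_mul] at k
    exact absurd (h.eq_one' (xx_mem _ _) (eq_inv_of_mul_eq_one_left k ▸ inv_mem (mul_mem oC oC))) (h.xx_ne r)

theorem ii_prod {T : Submodule F V} (hT : TS Q T) (hd : finrank F T < k) (hu : u ∈ T) (hv : v ∈ T) (hw : w ∈ T)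
    (r : RP Q u v) (h3 : w ∉ ln F u v) {g₁ g₂ g₃ : G} (d₁ : II φ t u v g₁) (d₂ : II φ t u w g₂)
    (d₃ : II φ t u (v + w) g₃) : ∃ d ∈ DT Q T, g₁ * g₂ = g₃ * ph φ d ∨ g₁ * g₂ = g₃ * ph φ d * t := by
  have cN : ∀ {a b g}, II φ t a b g → a ∈ T → b ∈ T → g ∈ centralizer (im φ (NT Q T) : Set G) :=
    fun d ha hb => by
      rw [mem_centralizer_iff]
      intro x hx
      obtain ⟨n, hn, h1, rfl⟩ := mem_im.1 hx
      exact d.com h1 (hn.2.1 _ ha) (hn.2.1 _ hb)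
  have hvw := T.add_mem hv hw
  have ct : Commute (g₃⁻¹ * (g₁ * g₂)) t := by
    have : g₁ * g₂ * t * (g₁ * g₂)⁻¹ = g₃ * t * g₃⁻¹ := by
      rw [HX.conj_mul_of d₂.mv (show g₁ * (t * xx φ u w) * g₁⁻¹ = t * xx φ u v * xx φ u w by
        rw [← d₁.mv, mul_assoc (g₁ * t), ← (d₁.xc hT hu hv hu hw).inv_right.eq]; group), d₃.mv, mul_assoc,
        xx_mul r.qu r.uv (hT.le_pp hu w hw)]
    show _ * t = t * _
    calc _ = g₃⁻¹ * (g₁ * g₂ * t * (g₁ * g₂)⁻¹) * (g₁ * g₂) := by group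
      _ = _ := by rw [this]; group
  obtain ⟨d, hd', c, hc, e⟩ := h.cN' hT ((h.cen_ln r).symm.trans_le (Submodule.finrank_mono
    (Submodule.span_le.2 (by rintro _ (rfl | rfl) <;> assumption)))) hd (h.cN ct)
    (mul_mem (inv_mem (cN d₃ hu hvw)) (mul_mem (cN d₁ hu hv) (cN d₂ hu hw)))
  have dN := h.DT_le_NT hT hd'
  have dO := h.NT_le_Om hT dN
  have dt : Commute (ph φ d) t := h.com (ph_mem d)
  have dg : Commute (ph φ d) g₃ := d₃.com dO (dN.2.1 _ hu) (dN.2.1 _ hvw)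
  have d2 : ph φ d * ph φ d = 1 := by rw [← ph_mul dO dO, h.DT_sq hT hd', ph_one]
  obtain ⟨o, oC, ot, oo, e'⟩ := h2.dec hc (by
    rw [show c = (ph φ d)⁻¹ * (g₃⁻¹ * (g₁ * g₂)) by rw [e]; group]
    exact dt.inv_left.mul_left ct)
  have key : ∀ X, Commute X o → X ^ 4 = 1 → g₁ * g₂ = X * o → g₁ * g₂ = X := fun X c1 c2 c3 => by
    have c4 : (g₁ * g₂) ^ 4 = o ^ 4 := by rw [c3, c1.mul_pow, c2, one_mul]
    have c5 : g₁ * (g₁ * g₂) * g₁⁻¹ = (g₁ * g₂)⁻¹ := by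
      rw [← mul_assoc, d₁.sq, one_mul, mul_inv_rev, d₂.inv]
    have c6 : o ^ 4 = (o ^ 4)⁻¹ := by
      rw [← c4, ← inv_pow, ← c5, conj_pow, c4, ((Commute.pow_right (d₁.co o oC ot oo) 4)).eq,
        mul_inv_cancel_right]
    have c7 : orderOf o ∣ 2 ^ 3 := orderOf_dvd_of_pow_eq_one (by
      rw [show 2 ^ 3 = 4 + 4 from rfl, pow_add]; exact eq_inv_iff_mul_eq_one.1 c6)
    rw [c3, orderOf_eq_one_iff.1 ((Nat.Coprime.pow_right 3 (Nat.coprime_two_right.2 oo)).eq_one_of_dvd c7),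
      mul_one]
  have go : Commute (g₃ * ph φ d) o := Commute.mul_left (d₃.co o oC ot oo) (oC _ (ph_mem d))
  rw [inv_mul_eq_iff_eq_mul] at e
  refine ⟨d, hd', e'.imp (fun e' => key _ go ?_ (by rw [e, e', mul_assoc])) fun e' =>
    key _ (go.mul_left ot.symm) ?_ (by rw [e, e']; group)⟩
  · rw [show 4 = 2 * 2 from rfl, pow_mul, dg.symm.mul_pow, pow_two g₃, d₃.sq, pow_two (ph φ d), d2, one_mul, one_pow]
  · rw [mul_assoc, dt.eq, ← mul_assoc, show 4 = 2 * 2 from rfl, pow_mul, (dg.mul_right dt).symm.mul_pow,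
      pow_two (ph φ d), d2, mul_one, show (g₃ * t) ^ 2 = g₃ * t * g₃⁻¹ * t by rw [d₃.inv, pow_two, mul_assoc (g₃ * t)], d₃.mv,
      mul_assoc, (h.com (xx_mem _ _)).eq, ← mul_assoc, h.t2, one_mul, pow_two, h.xx_sq]

theorem ii_all (r : RP Q u v) (hw : Q w = 0) (h0 : polar Q u w = 0) (h1 : polar Q v w = 0) (h3 : w ∉ ln F u v)
    (d : II φ t u v g) (d' : II φ t u w g') {u' v' w' : V} (r' : RP Q u' v') (hw' : Q w' = 0)
    (h0' : polar Q u' w' = 0) (h1' : polar Q v' w' = 0) (h3' : w' ∉ ln F u' v') {a a' : G} (b : II φ t u' v' a)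
    (b' : II φ t u' w' a') (c : Commute a a') : Commute g g' := by
  obtain ⟨e, f, fr, rfl, rfl, rfl⟩ := h.fr_three r hw h0 h1 h3
  obtain ⟨e', f', fr', rfl, rfl, rfl⟩ := h.fr_three r' hw' h0' h1' h3'
  have k4 := h.four
  obtain ⟨γ, hγ, H⟩ := h.fr_conj (m := 3) (by omega) (fr'.mono (by omega)) (fr.mono (by omega))
  have b1 := h.ii_conj b hγ
  have b2 := h.ii_conj b' hγ
  rw [(H 0 (by omega)).1, (H 1 (by omega)).1] at b1
  rw [(H 0 (by omega)).1, (H 2 (by omega)).1] at b2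
  have c' := c.conj (ph φ γ)
  have hT := fr.ts (n := 3) (by omega)
  have m : ∀ i, i < 3 → e i ∈ Tn F e 3 := fun i => e_mem_Tn
  have m0 := m 0 (by omega)
  have m1 := m 1 (by omega)
  have m2 := m 2 (by omega)
  rcases h.ii_pair hq h2 r b1 d with rfl | rfl <;>
    rcases h.ii_pair hq h2 (h.rp3 r hw h0 h3) b2 d' with rfl | rfl
  exacts [c', c'.mul_right (b1.xc hT m0 m1 m0 m2).symm, c'.mul_left (b2.xc hT m0 m2 m0 m1),
    (c'.mul_right (b1.xc hT m0 m1 m0 m2).symm).mul_left ((b2.xc hT m0 m2 m0 m1).mul_right (xx_comm _ _ _))]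

end Sit

end CfsgLib.SL8
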